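import Cfsg.Agent.Lib.ClassSizeMid.Basic
import Cfsg.Agent.Lib.Derangements.Basic
import Cfsg.Agent.Lib.Solvable.Cores
import Cfsg.Agent.S0144

/-!
Finite groups whose class sizes are exactly `1`, `n`, `m`, `n * m` with `n`, `m` coprime:
general tools (centralizers, conjugation into subgroups of index prime to `p`, the Fitting
subgroup of a group with two non-central primes).
-/

set_option autoImplicit false
set_option linter.style.haveILetI false
set_option linter.unusedSectionVars false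

namespace CfsgLib.ClassSizeNM

open Subgroup Cfsg.Agent.CoprimeTopClasses
open CfsgLib.ClassSizeMid (QEl CoEl exists_parts coprime_of_el qel_iff_zpowers qel_of_mem)

variable {G : Type*} [Group G]

theorem commute_iff {a b : G} : Commute a b ↔ a ∈ C b := mem_C.symm

theorem C_conj_commute {a b g : G} (h : Commute a b) :
    Commute (g * a * g⁻¹) (g * b * g⁻¹) :=
  commute_iff.2 (conj_mem_C.2 (commute_iff.1 h))

theorem mem_C_conj {x a g : G} (h : g⁻¹ * x * g ∈ C a) : x ∈ C (g * a * g⁻¹) := by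
  have := (conj_mem_C (g := g)).2 h
  simpa [mul_assoc] using this

/-- The index of an intersection is the product when it is divisible enough. -/
theorem relIndex_inf_index (A B : Subgroup G) :
    (A ⊓ B).index = B.relIndex A * A.index := by
  rw [← Subgroup.relIndex_mul_index (inf_le_left : A ⊓ B ≤ A), Subgroup.inf_relIndex_left]

theorem relIndex_inf_index' (A B : Subgroup G) :
    (A ⊓ B).index = A.relIndex B * B.index := by
  rw [inf_comm, relIndex_inf_index]

/-- The conjugates of `a` by a subgroup. -/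
theorem ncard_conj_range [Finite G] (K : Subgroup G) (a : G) :
    (Set.range fun g : K => (g : G) * a * (g : G)⁻¹).ncard = (C a).relIndex K := by
  set S := Set.range fun g : K => (g : G) * a * (g : G)⁻¹ with hS
  rw [← Nat.card_coe_set_eq, Subgroup.relIndex, Subgroup.index]
  refine (Nat.card_congr (Equiv.ofBijective
    (Quotient.lift (fun g : K => (⟨(g : G) * a * (g : G)⁻¹, g, rfl⟩ : S)) ?_) ⟨?_, ?_⟩)).symm
  · intro g h hgh
    have h0 : g⁻¹ * h ∈ (C a).subgroupOf K := QuotientGroup.leftRel_apply.1 hgh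
    have hgh' : (g : G)⁻¹ * h ∈ C a := by simpa [Subgroup.mem_subgroupOf] using h0
    refine Subtype.ext ?_
    show (g : G) * a * (g : G)⁻¹ = h * a * (h : G)⁻¹
    have e := mem_C.1 hgh'
    calc (g : G) * a * (g : G)⁻¹ = g * (a * ((g : G)⁻¹ * h)) * (h : G)⁻¹ := by group
      _ = g * ((g : G)⁻¹ * h * a) * (h : G)⁻¹ := by rw [e]
      _ = h * a * (h : G)⁻¹ := by group
  · intro q r
    induction q using QuotientGroup.induction_on with | _ g =>
    induction r using QuotientGroup.induction_on with | _ h =>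
    intro e
    have e' : (g : G) * a * (g : G)⁻¹ = h * a * (h : G)⁻¹ := congrArg Subtype.val e
    refine QuotientGroup.eq.2 ?_
    show (g : G)⁻¹ * h ∈ C a
    refine mem_C.2 ?_
    calc (g : G)⁻¹ * h * a = (g : G)⁻¹ * (h * a * (h : G)⁻¹) * h := by group
      _ = (g : G)⁻¹ * (g * a * (g : G)⁻¹) * h := by rw [e']
      _ = a * ((g : G)⁻¹ * h) := by group
  · rintro ⟨_, g, rfl⟩
    exact ⟨QuotientGroup.mk g, rfl⟩

section finite

variable [Finite G]

theorem cl_dvd_of_mem_zpowers {a b : G} (h : b ∈ zpowers a) : cl b ∣ cl a :=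
  Subgroup.index_dvd_of_le (zpow_C h)

theorem cl_dvd_mul {a b : G} (hab : Commute a b) (h : (orderOf a).Coprime (orderOf b)) :
    cl a ∣ cl (a * b) ∧ cl b ∣ cl (a * b) :=
  ⟨Subgroup.index_dvd_of_le (C_mul_le hab h).1, Subgroup.index_dvd_of_le (C_mul_le hab h).2⟩

theorem coprime_qel {p t : ℕ} (hp : p.Prime) (ht : t.Prime) (hpt : p ≠ t) {a b : G}
    (ha : QEl p a) (hb : QEl t b) : (orderOf a).Coprime (orderOf b) := by
  obtain ⟨i, hi⟩ := ha
  obtain ⟨j, hj⟩ := hb
  rw [hi, hj]
  exact ((Nat.coprime_primes hp ht).2 hpt).pow i j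

theorem QEl.eq_one {p t : ℕ} (hp : p.Prime) (ht : t.Prime) (hpt : p ≠ t) {a : G}
    (ha : QEl p a) (hb : QEl t a) : a = 1 :=
  orderOf_eq_one_iff.1 ((Nat.coprime_self _).1 (coprime_qel hp ht hpt ha hb))

/-- Induction on the prime power parts of an element, in the form used below. -/
theorem mem_of_qel (S : Subgroup G) (a : G)
    (h : ∀ b ∈ zpowers a, ∀ p : ℕ, p.Prime → p ∣ orderOf a → QEl p b → b ∈ S) : a ∈ S :=
  mem_of_primePow S a fun b hb p k hp hd hk => h b hb p hp hd ⟨k, hk⟩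

theorem exists_qel_notMem (S : Subgroup G) {a : G} (h : a ∉ S) :
    ∃ b ∈ zpowers a, ∃ p : ℕ, p.Prime ∧ QEl p b ∧ b ∉ S := by
  by_contra hne
  exact h (mem_of_qel S a fun b hb p hp _ hk => by
    by_contra hbS
    exact hne ⟨b, hb, p, hp, hk, hbS⟩)

theorem index_coprime_exists_mul {A B : Subgroup G} (hcop : A.index.Coprime B.index) (g : G) :
    ∃ a ∈ A, ∃ b ∈ B, g = a * b := by
  have h1 : (A ⊓ B).index = A.index * B.index := by
    refine le_antisymm Subgroup.index_inf_le (Nat.le_of_dvd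
      (Nat.pos_of_ne_zero Subgroup.index_ne_zero_of_finite) ?_)
    exact hcop.mul_dvd_of_dvd_of_dvd (Subgroup.index_dvd_of_le inf_le_left)
      (Subgroup.index_dvd_of_le inf_le_right)
  rw [relIndex_inf_index] at h1
  have h3 : B.relIndex A = B.index :=
    Nat.eq_of_mul_eq_mul_right (Nat.pos_of_ne_zero Subgroup.index_ne_zero_of_finite)
      (h1.trans (mul_comm _ _))
  have h4 : MulAction.stabilizer A (QuotientGroup.mk 1 : G ⧸ B) = B.subgroupOf A := by
    ext ⟨u, hu⟩
    rw [MulAction.mem_stabilizer_iff, Subgroup.mem_subgroupOf]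
    show (QuotientGroup.mk (u * 1) : G ⧸ B) = QuotientGroup.mk 1 ↔ _
    rw [QuotientGroup.eq]
    simp
  have h5 : (MulAction.orbit A (QuotientGroup.mk 1 : G ⧸ B)) = Set.univ := by
    refine Set.eq_of_subset_of_ncard_le (Set.subset_univ _) ?_
    rw [Set.ncard_univ, ← MulAction.index_stabilizer, h4]
    exact le_of_eq (h3.symm.trans rfl)
  obtain ⟨⟨u, hu⟩, e⟩ : (QuotientGroup.mk g : G ⧸ B) ∈
      MulAction.orbit A (QuotientGroup.mk 1 : G ⧸ B) := h5 ▸ Set.mem_univ _
  refine ⟨u, hu, u⁻¹ * g, ?_, by group⟩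
  have e' : (QuotientGroup.mk (u * 1) : G ⧸ B) = QuotientGroup.mk g := e
  rw [mul_one] at e'
  exact QuotientGroup.eq.1 e'

/-- A `p`-subgroup is conjugate into any subgroup of index prime to `p`. -/
theorem exists_conj_le {p : ℕ} (hp : p.Prime) {W : Subgroup G} (hW : IsPGroup p W) {H : Subgroup G}
    (hd : ¬ p ∣ H.index) : ∃ g : G, ∀ x ∈ W, g⁻¹ * x * g ∈ H := by
  haveI := Fact.mk hp
  obtain ⟨c, hc⟩ := hW.nonempty_fixed_point_of_prime_not_dvd_card (G ⧸ H) hd
  induction c using QuotientGroup.induction_on with | _ g =>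
  refine ⟨g, fun x hx => ?_⟩
  have := hc ⟨x⁻¹, inv_mem hx⟩
  have h2 : (QuotientGroup.mk (x⁻¹ * g) : G ⧸ H) = QuotientGroup.mk g := this
  rw [QuotientGroup.eq] at h2
  simpa [mul_assoc] using h2

theorem exists_conj_mem' {p : ℕ} (hp : p.Prime) {x : G} (hx : QEl p x) {H : Subgroup G}
    (hd : ¬ p ∣ H.index) : ∃ g : G, g⁻¹ * x * g ∈ H := by
  obtain ⟨k, hk⟩ := hx
  exact exists_conj_mem hp hk hd

/-- A `p`-element commutes with a conjugate of any element whose class has size prime to `p`. -/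
theorem exists_commute_conj {p : ℕ} (hp : p.Prime) {x a : G} (hx : QEl p x) (hd : ¬ p ∣ cl a) :
    ∃ g : G, Commute x (g * a * g⁻¹) := by
  obtain ⟨g, hg⟩ := exists_conj_mem' hp hx hd
  exact ⟨g, commute_iff.2 (mem_C_conj hg)⟩

/-- The version of `exists_conj_le` inside a subgroup. -/
theorem exists_conj_le_rel {p : ℕ} (hp : p.Prime) {W K D : Subgroup G} (hW : IsPGroup p W)
    (hWK : W ≤ K) (hd : ¬ p ∣ D.relIndex K) : ∃ g ∈ K, ∀ x ∈ W, g⁻¹ * x * g ∈ D := by
  obtain ⟨⟨g, hg⟩, h⟩ := exists_conj_le hp (W := W.subgroupOf K)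
    (hW.of_equiv (Subgroup.subgroupOfEquivOfLe hWK).symm) (H := D.subgroupOf K) hd
  refine ⟨g, hg, fun x hx => ?_⟩
  exact h ⟨x, hWK hx⟩ hx

theorem exists_sylow_le {p : ℕ} [Fact p.Prime] {H : Subgroup G} (hd : ¬ p ∣ H.index) :
    ∃ P : Sylow p G, (P : Subgroup G) ≤ H := by
  obtain ⟨P₀⟩ : Nonempty (Sylow p G) := inferInstance
  obtain ⟨g, hg⟩ := exists_conj_le (Fact.out : p.Prime) P₀.isPGroup' hd
  refine ⟨g⁻¹ • P₀, ?_⟩
  rw [Sylow.coe_subgroup_smul]
  rintro _ ⟨x, hx, rfl⟩
  simpa using hg x hx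

/-- A `p`-element centralising a Sylow `p`-subgroup lies in it. -/
theorem mem_sylow_of_le_C {p : ℕ} [Fact p.Prime] {b : G} (hb : QEl p b) {Q : Sylow p G}
    (hQ : (Q : Subgroup G) ≤ C b) : b ∈ (Q : Subgroup G) := by
  have hle : zpowers b ≤ Subgroup.normalizer ((Q : Subgroup G) : Set G) :=
    Subgroup.zpowers_le.2 ((Subgroup.centralizer_le_normalizer _)
      (Subgroup.mem_centralizer_iff.2 fun x hx => (mem_C.1 (hQ hx))))
  have hpg := IsPGroup.to_sup_of_normal_right' (qel_iff_zpowers.1 hb) Q.isPGroup' hle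
  have := Q.is_maximal' hpg le_sup_right
  exact this ▸ Subgroup.mem_sup_left (mem_zpowers b)

theorem mem_sylow_of_normal {p : ℕ} [Fact p.Prime] {x : G} (hx : QEl p x) {P : Sylow p G}
    [(P : Subgroup G).Normal] : x ∈ (P : Subgroup G) := by
  have hpg := IsPGroup.to_sup_of_normal_right (qel_iff_zpowers.1 hx) P.isPGroup'
  have := P.is_maximal' hpg le_sup_right
  exact this ▸ Subgroup.mem_sup_left (mem_zpowers x)

/-- The class sizes are exactly `1`, `n`, `m`, `n * m`. -/
structure Hyp (G : Type*) [Group G] (n m : ℕ) : Prop where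
  hn : 1 < n
  hm : 1 < m
  hcop : n.Coprime m
  mem : ∀ z : G, cl z = 1 ∨ cl z = n ∨ cl z = m ∨ cl z = n * m
  exn : ∃ z : G, cl z = n
  exm : ∃ z : G, cl z = m
  exnm : ∃ z : G, cl z = n * m

variable {n m : ℕ}

omit [Finite G] in
theorem Hyp.symm (H : Hyp G n m) : Hyp G m n where
  hn := H.hm
  hm := H.hn
  hcop := H.hcop.symm
  mem z := by
    rcases H.mem z with h | h | h | h
    · exact Or.inl h
    · exact Or.inr (Or.inr (Or.inl h))
    · exact Or.inr (Or.inl h)
    · exact Or.inr (Or.inr (Or.inr (h.trans (mul_comm _ _))))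
  exn := H.exm
  exm := H.exn
  exnm := H.exnm.imp fun _ h => h.trans (mul_comm _ _)

omit [Finite G] in
theorem Hyp.not_dvd_m (H : Hyp G n m) {p : ℕ} (hp : p.Prime) (h : p ∣ n) : ¬ p ∣ m :=
  fun h' => hp.one_lt.ne' (Nat.dvd_one.1 (H.hcop ▸ Nat.dvd_gcd h h'))

omit [Finite G] in
theorem Hyp.not_dvd_n (H : Hyp G n m) {p : ℕ} (hp : p.Prime) (h : p ∣ m) : ¬ p ∣ n :=
  fun h' => H.not_dvd_m hp h' h

omit [Finite G] in
theorem Hyp.not_central (H : Hyp G n m) {z : G} (h : cl z = n ∨ cl z = m ∨ cl z = n * m) :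
    z ∉ center G := by
  intro hz
  have h1 := CfsgLib.ClassSizeMid.cl_eq_one_iff.2 hz
  have := H.hn
  have := H.hm
  have : 1 < n * m := one_lt_mul'' H.hn H.hm
  omega

omit [Finite G] in
theorem Hyp.cases (H : Hyp G n m) {z : G} (hz : z ∉ center G) :
    cl z = n ∨ cl z = m ∨ cl z = n * m :=
  (H.mem z).resolve_left fun h => hz (CfsgLib.ClassSizeMid.cl_eq_one_iff.1 h)

omit [Finite G] in
/-- Classes whose size divides `n`. -/
theorem Hyp.cl_of_dvd (H : Hyp G n m) {z : G} (h : cl z ∣ n) (hz : z ∉ center G) : cl z = n := by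
  rcases H.cases hz with e | e | e
  · exact e
  · rw [e] at h
    exact absurd (Nat.dvd_one.1 (H.hcop ▸ Nat.dvd_gcd h dvd_rfl)) H.hm.ne'
  · rw [e] at h
    exact absurd (Nat.dvd_one.1 (H.hcop ▸ Nat.dvd_gcd (dvd_trans (dvd_mul_left m n) h) dvd_rfl))
      H.hm.ne'

omit [Finite G] in
/-- Classes whose size is a multiple of `n` prime to a divisor of `m`. -/
theorem Hyp.cl_eq_n (H : Hyp G n m) {z : G} (h : n ∣ cl z) {t : ℕ} (htm : t ∣ m)
    (ht : ¬ t ∣ cl z) : cl z = n := by
  rcases H.mem z with e | e | e | e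
  · rw [e] at h; exact absurd (Nat.dvd_one.1 h) H.hn.ne'
  · exact e
  · exact absurd (e.symm ▸ htm) ht
  · exact absurd (e.symm ▸ dvd_mul_of_dvd_right htm n) ht

omit [Finite G] in
/-- Classes whose size is a multiple of `n` and of `m`. -/
theorem Hyp.cl_eq_nm (H : Hyp G n m) {z : G} (h : n ∣ cl z) (h' : m ∣ cl z) :
    cl z = n * m := by
  rcases H.mem z with e | e | e | e
  · rw [e] at h; exact absurd (Nat.dvd_one.1 h) H.hn.ne'
  · rw [e] at h'; exact absurd (Nat.dvd_one.1 (H.hcop ▸ Nat.dvd_gcd h' dvd_rfl)) H.hm.ne'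
  · rw [e] at h; exact absurd (Nat.dvd_one.1 (H.hcop ▸ Nat.dvd_gcd dvd_rfl h)) H.hn.ne'
  · exact e

omit [Finite G] in
theorem Hyp.dvd_nm (H : Hyp G n m) (z : G) : cl z ∣ n * m := by
  rcases H.mem z with e | e | e | e <;> rw [e]
  · exact one_dvd _
  · exact dvd_mul_right _ _
  · exact dvd_mul_left _ _

/-- A prime power part with the same centralizer. -/
theorem Hyp.exists_pp (H : Hyp G n m) {a : G} (ha : cl a = n) :
    ∃ h ∈ zpowers a, ∃ p : ℕ, p.Prime ∧ QEl p h ∧ cl h = n ∧ C h = C a := by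
  obtain ⟨b, hb, p, hp, hk, hbz⟩ := exists_qel_notMem (center G) (H.not_central (Or.inl ha))
  have h1 : cl b = n := H.cl_of_dvd (ha ▸ cl_dvd_of_mem_zpowers hb) hbz
  exact ⟨b, hb, p, hp, hk, h1, (eq_of_le_of_cl (zpow_C hb) (ha.trans h1.symm)).symm⟩

/-- If `cl g = n * m`, a commuting element of coprime order centralises the centralizer of `g`. -/
theorem Hyp.le_C_of_nm (H : Hyp G n m) {g x : G} (hg : cl g = n * m) (hc : Commute g x)
    (ho : (orderOf g).Coprime (orderOf x)) : C g ≤ C x := by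
  obtain ⟨h1, h2⟩ := C_mul_le hc ho
  have h3 : cl (g * x) = cl g :=
    Nat.dvd_antisymm (hg.symm ▸ H.dvd_nm _) (Subgroup.index_dvd_of_le h1)
  rw [eq_of_le_of_cl h1 h3] at h2
  exact h2

omit [Finite G] in
theorem coprime_cl {a b : G} (H : Hyp G n m) (ha : cl a = n) (hb : cl b = m) :
    (cl a).Coprime (cl b) := by
  rw [ha, hb]; exact H.hcop

/-- Commuting elements with coprime class sizes commute with all conjugates of one another. -/
theorem conj_commute {a b : G} (hcop : (cl a).Coprime (cl b)) (h : Commute a b) (g : G) :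
    Commute a (g * b * g⁻¹) := by
  obtain ⟨u, hu, v, hv, rfl⟩ := exists_factor hcop g
  have e1 : u * v * b * (u * v)⁻¹ = u * b * u⁻¹ := by
    rw [mul_assoc u v b, mem_C.1 hv]; group
  have e2 : u * a * u⁻¹ = a := by rw [mem_C.1 hu]; group
  rw [e1]
  have := C_conj_commute (g := u) h
  rwa [e2] at this

theorem Hyp.commute_of_conj (H : Hyp G n m) {a b g : G} (ha : cl a = n) (hb : cl b = m)
    (h : Commute a (g * b * g⁻¹)) : Commute a b := by
  have := conj_commute (coprime_cl H ha ((cl_conj b g).trans hb)) h g⁻¹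
  simpa [mul_assoc] using this

theorem Hyp.commute_of_conj' (H : Hyp G n m) {a b g : G} (ha : cl a = n) (hb : cl b = m)
    (h : Commute (g * a * g⁻¹) b) : Commute a b :=
  (H.symm.commute_of_conj hb ha h.symm).symm

/-- The transfer of `p`-parts from the centralizer of an element with class size `n * m`. -/
theorem Hyp.not_dvd_relIndex_of_nm (H : Hyp G n m) {g v : G} (hg : cl g = n * m) (hv : cl v = m)
    {p : ℕ} (hp : p.Prime) (hpn : ¬ p ∣ n) (hs : ∀ s ∈ C g, QEl p s → s ∈ C v) :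
    ¬ p ∣ (C g ⊓ C v).relIndex (C v) := by
  haveI := Fact.mk hp
  set D := C g ⊓ C v with hD
  have h1 : ¬ p ∣ D.relIndex (C g) := by
    obtain ⟨P⟩ : Nonempty (Sylow p (C g)) := inferInstance
    have hle : (P : Subgroup (C g)) ≤ D.subgroupOf (C g) := fun x hx =>
      ⟨x.2, hs x x.2 (by
        obtain ⟨k, hk⟩ := qel_of_mem P.isPGroup' hx
        exact ⟨k, by rw [← hk, Subgroup.orderOf_coe]⟩)⟩
    exact fun hd => P.not_dvd_index (hd.trans (Subgroup.index_dvd_of_le hle))
  have e1 := Subgroup.relIndex_mul_index (inf_le_left : D ≤ C g)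
  have e2 := Subgroup.relIndex_mul_index (inf_le_right : D ≤ C v)
  change _ * cl g = _ at e1
  change _ * cl v = _ at e2
  rw [hg] at e1
  rw [hv, ← e1, ← mul_assoc] at e2
  rw [Nat.eq_of_mul_eq_mul_right (lt_trans zero_lt_one H.hm) e2]
  exact fun hd => (hp.dvd_mul.1 hd).elim h1 hpn

/-- Primes not dividing `n * m` have central Sylow subgroups. -/
theorem Hyp.central_of_not_dvd (H : Hyp G n m) {r : ℕ} (hr : r.Prime) (hrn : ¬ r ∣ n)
    (hrm : ¬ r ∣ m) {x : G} (hx : QEl r x) : x ∈ center G := by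
  haveI := Fact.mk hr
  obtain ⟨R⟩ : Nonempty (Sylow r G) := inferInstance
  have htop : centralizer ((R : Subgroup G) : Set G) = ⊤ := by
    by_contra hne
    obtain ⟨z, hz⟩ := CfsgLib.Derangements.Basic.exists_notMem_conj hne
    have hd : ¬ r ∣ (C z).index := fun hd =>
      (hr.dvd_mul.1 (hd.trans (H.dvd_nm z))).elim hrn hrm
    obtain ⟨g, hg⟩ := exists_conj_le hr R.isPGroup' hd
    refine hz g (Subgroup.mem_centralizer_iff.2 fun y hy => ?_)
    exact mem_C.1 (mem_C_conj (hg y hy))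
  obtain ⟨g, hg⟩ := exists_conj_mem' hr hx R.not_dvd_index
  have hzc : g⁻¹ * x * g ∈ center G :=
    Subgroup.centralizer_eq_top_iff_subset.1 htop hg
  have := Subgroup.Normal.conj_mem inferInstance _ hzc g
  simpa [mul_assoc] using this

/-- An element of prime power order in a subgroup lies in a normal subgroup of relative index
prime to it. -/
theorem mem_of_not_dvd_relIndex {N K : Subgroup G} [(N.subgroupOf K).Normal] {r : ℕ}
    (hr : r.Prime) {x : G} (hx : QEl r x) (hxK : x ∈ K) (hd : ¬ r ∣ N.relIndex K) : x ∈ N := by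
  obtain ⟨k, hk⟩ := hx
  have h1 := Subgroup.pow_index_mem (N.subgroupOf K) ⟨x, hxK⟩
  rw [Subgroup.mem_subgroupOf] at h1
  obtain ⟨j, hj⟩ := exists_pow_eq_self_of_coprime (x := x) (n := N.relIndex K)
    (by rw [hk]; exact Nat.Coprime.pow_right k (hr.coprime_iff_not_dvd.2 hd).symm)
  rw [← hj]
  exact pow_mem h1 j

/-- A group whose elements of coprime prime power orders commute is nilpotent. -/
theorem isNilpotent_of_commute
    (h : ∀ p q : ℕ, p.Prime → q.Prime → p ≠ q → ∀ x y : G, QEl p x → QEl q y → Commute x y) :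
    Group.IsNilpotent G := by
  refine (Group.isNilpotent_of_finite_tfae.out 0 3 rfl rfl).2 ?_
  intro p hp P
  refine Subgroup.normalizer_eq_top_iff.1 (CfsgLib.Solvable.Cores.eq_top_of_sylow_le _ fun q hq => ?_)
  haveI := Fact.mk hq
  rcases eq_or_ne q p with rfl | hqp
  · exact ⟨P, Subgroup.le_normalizer⟩
  obtain ⟨S⟩ : Nonempty (Sylow q G) := inferInstance
  refine ⟨S, fun y hy => Subgroup.centralizer_le_normalizer _ ?_⟩
  exact Subgroup.mem_centralizer_iff.2 fun x hx =>
    (h p q hp.out hq (Ne.symm hqp) x y (qel_of_mem P.isPGroup' hx) (qel_of_mem S.isPGroup' hy)).eq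

/-- The `p`-elements of the Fitting subgroup lie in the `p`-core. -/
theorem mem_pCore_of_mem_fitting {p : ℕ} (hp : p.Prime) {x : G} (hx : QEl p x)
    (hF : x ∈ Cfsg.fittingSubgroup G) : x ∈ Cfsg.pCore p G := by
  haveI := Fact.mk hp
  haveI := CfsgLib.Solvable.Cores.fittingSubgroup_isNilpotent (G := G)
  obtain ⟨k, hk⟩ := hx
  obtain ⟨P, hP⟩ := (IsPGroup.of_card (p := p) (n := k) (by
    rw [Nat.card_zpowers, Subgroup.orderOf_mk, hk]) :
    IsPGroup p (zpowers (⟨x, hF⟩ : Cfsg.fittingSubgroup G))).exists_le_sylow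
  have hPn : (P : Subgroup (Cfsg.fittingSubgroup G)).Normal :=
    (Group.isNilpotent_of_finite_tfae.out 0 3 rfl rfl).1 inferInstance p inferInstance P
  haveI : (P : Subgroup (Cfsg.fittingSubgroup G)).Characteristic := P.characteristic_of_normal hPn
  exact CfsgLib.Solvable.Cores.le_pCore
    (N := (P : Subgroup (Cfsg.fittingSubgroup G)).map (Cfsg.fittingSubgroup G).subtype)
    (P.isPGroup'.map _) ⟨⟨x, hF⟩, hP (mem_zpowers _), rfl⟩

/-- In a solvable group whose non-central primes are `p` and `q`, a `p`-element centralising both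
cores lies in the `p`-core. -/
theorem mem_pCore_of_centralizes [Group.IsSolvable G] {p q : ℕ} (hp : p.Prime)
    (hoth : ∀ s : ℕ, s.Prime → s ≠ p → s ≠ q → ∀ y : G, QEl s y → y ∈ center G)
    {x : G} (hx : QEl p x) (hcp : ∀ y ∈ Cfsg.pCore p G, Commute x y)
    (hcq : ∀ y ∈ Cfsg.pCore q G, Commute x y) : x ∈ Cfsg.pCore p G := by
  refine mem_pCore_of_mem_fitting hp hx (CfsgLib.Solvable.Cores.centralizer_fittingSubgroup_le ?_)
  have hle : Cfsg.fittingSubgroup G ≤ C x := by
    rw [CfsgLib.Solvable.Cores.fittingSubgroup_eq_iSup_pCore]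
    refine iSup_le fun ⟨s, hs⟩ y hy => mem_C.2 ?_
    by_cases h1 : s = p
    · subst h1; exact (hcp y hy).symm
    by_cases h2 : s = q
    · subst h2; exact (hcq y hy).symm
    haveI := Fact.mk hs
    exact (Subgroup.mem_center_iff.1 (hoth s hs h1 h2 y
      (qel_of_mem (CfsgLib.Solvable.Cores.isPGroup_pCore s) hy)) x).symm
  exact Subgroup.mem_centralizer_iff.2 fun y hy => mem_C.1 (hle hy)

/-- A finite group with at most two non-central primes is solvable. -/
theorem isSolvable_of_two_primes {p q : ℕ} (hp : p.Prime) (hq : q.Prime)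
    (hoth : ∀ s : ℕ, s.Prime → s ≠ p → s ≠ q → ∀ y : G, QEl s y → y ∈ center G) :
    Group.IsSolvable G := by
  set Z := center G with hZ
  have hdiv : ∀ s, s.Prime → s ∣ Z.index → s = p ∨ s = q := by
    intro s hs hd
    by_contra hne
    rw [not_or] at hne
    haveI := Fact.mk hs
    obtain ⟨S⟩ : Nonempty (Sylow s G) := inferInstance
    exact S.not_dvd_index (hd.trans (Subgroup.index_dvd_of_le fun y hy =>
      hoth s hs hne.1 hne.2 y (qel_of_mem S.isPGroup' hy)))
  obtain ⟨a, r, hr, e⟩ := Nat.exists_eq_pow_mul_and_not_dvd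
    (Subgroup.index_ne_zero_of_finite (H := Z)) p hp.ne_one
  have hr0 : r ≠ 0 := fun h0 => hr (h0 ▸ dvd_zero p)
  have hrq : r = q ^ r.primeFactorsList.length := by
    refine Nat.eq_prime_pow_of_unique_prime_dvd hr0 fun {d} hd hdd => ?_
    rcases hdiv d hd (e ▸ dvd_mul_of_dvd_right hdd _) with rfl | rfl
    · exact absurd hdd hr
    · rfl
  haveI : Group.IsSolvable (G ⧸ Z) :=
    Cfsg.Agent.S0144.result p q a r.primeFactorsList.length hp hq (by
      rw [← Subgroup.index_eq_card]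
      exact e.trans (by rw [← hrq]))
  haveI : Group.IsSolvable Z := Group.isSolvable_of_comm fun a b =>
    Subtype.ext (Subgroup.mem_center_iff.1 b.2 a)
  exact Group.isSolvable_of_ker_le_range Z.subtype (QuotientGroup.mk' Z)
    (by rw [QuotientGroup.ker_mk', Subgroup.range_subtype])

end finite

end CfsgLib.ClassSizeNM
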