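import Cfsg.Agent.Lib.ClassSizeNM.Basic
import Cfsg.Agent.S4035
import Cfsg.Agent.S4134

/-!
Class sizes `1`, `n`, `m`, `n * m`: if some element of prime power order with class size `n`
has its prime outside `m`, the group is nilpotent and `n`, `m` are prime powers.
-/

set_option autoImplicit false
set_option linter.style.haveILetI false
set_option linter.unusedSectionVars false

namespace CfsgLib.ClassSizeNM

open scoped Pointwise
open Subgroup Cfsg.Agent.CoprimeTopClasses
open CfsgLib.ClassSizeMid (QEl CoEl exists_parts coprime_of_el qel_iff_zpowers qel_of_mem)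

variable {G : Type*} [Group G] [Finite G] {n m : ℕ}

/-- Elements of class size `n` with orders powers of different primes, one of them dividing `m`,
have conjugate centralizers. -/
theorem Hyp.exists_conj_C_eq (H : Hyp G n m) {p t : ℕ} (hp : p.Prime) (ht : t.Prime) (hpt : p ≠ t)
    {a b : G} (ha : QEl p a) (hb : QEl t b) (htm : t ∣ m) (hca : cl a = n) (hcb : cl b = n) :
    ∃ g : G, C (g * b * g⁻¹) = C a := by
  haveI := Fact.mk ht
  obtain ⟨Q, hQ⟩ := exists_sylow_le (p := t) (H := C a)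
    (by rw [show (C a).index = n from hca]; exact H.not_dvd_n ht htm)
  obtain ⟨g, hg⟩ := exists_conj_le ht Q.isPGroup' (H := C b)
    (by rw [show (C b).index = n from hcb]; exact H.not_dvd_n ht htm)
  set b' := g * b * g⁻¹ with hb'def
  have hb' : QEl t b' := hb.conj g
  have hcb' : cl b' = n := (cl_conj b g).trans hcb
  have hQb : (Q : Subgroup G) ≤ C b' := fun x hx => mem_C_conj (hg x hx)
  have hc : Commute a b' := (commute_iff.2 (hQ (mem_sylow_of_le_C hb' hQb))).symm
  have ho := coprime_qel hp ht hpt ha hb'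
  obtain ⟨h1, h2⟩ := C_mul_le hc ho
  have hQab : (Q : Subgroup G) ≤ C (a * b') :=
    le_trans (le_inf hQ hQb) CfsgLib.ClassSizeMid.C_inf_le_mul
  have h3 : cl (a * b') = n := H.cl_eq_n (hca ▸ Subgroup.index_dvd_of_le h1) htm
    fun hd => Q.not_dvd_index (hd.trans (Subgroup.index_dvd_of_le hQab))
  exact ⟨g, (eq_of_le_of_cl h2 (h3.trans hcb'.symm)).symm.trans
    (eq_of_le_of_cl h1 (h3.trans hca.symm))⟩

/-- Elements of class size `n` commute with those of class size `m`. -/
def Comm (G : Type*) [Group G] (n m : ℕ) : Prop :=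
  ∀ a b : G, cl a = n → cl b = m → Commute a b

theorem Comm.symm (h : Comm G n m) : Comm G m n := fun a b ha hb => (h b a hb ha).symm

/-- A good element forces commutation. -/
theorem Hyp.comm_of_good (H : Hyp G n m) {p : ℕ} (hp : p.Prime) {u0 : G} (hu : QEl p u0)
    (hcu : cl u0 = n) (hpm : ¬ p ∣ m) : Comm G n m := by
  have direct : ∀ {s : ℕ} {u b : G}, s.Prime → QEl s u → cl u = n → ¬ s ∣ m → cl b = m →
      Commute u b := by
    intro s u b hs hsu hun hsm hb
    obtain ⟨g, hg⟩ := exists_commute_conj hs hsu (a := b) (by rw [hb]; exact hsm)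
    exact H.commute_of_conj hun hb hg
  intro a b ha hb
  obtain ⟨h, -, q, hq, hqh, hhn, hC⟩ := H.exists_pp ha
  suffices Commute h b from (commute_iff.2 (hC ▸ commute_iff.1 this.symm)).symm
  by_cases hqm : q ∣ m
  · obtain ⟨g, hg⟩ := H.exists_conj_C_eq hp hq (fun e => hpm (e ▸ hqm)) hu hqh hqm hcu hhn
    have h1 : b ∈ C (g * h * g⁻¹) := hg ▸ commute_iff.1 (direct hp hu hcu hpm hb).symm
    exact H.commute_of_conj' hhn hb (commute_iff.2 h1).symm
  · exact direct hq hqh hhn hqm hb

/-- Centralizer indices inside a subgroup. -/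
theorem index_centralizer_coe (K : Subgroup G) (x : K) :
    (Subgroup.centralizer ({x} : Set K)).index = (C (x : G)).relIndex K := by
  have h : Subgroup.centralizer ({x} : Set K) = (C (x : G)).subgroupOf K := by
    ext y
    rw [Subgroup.mem_subgroupOf, Subgroup.mem_centralizer_singleton_iff, mem_C]
    exact Subtype.ext_iff
  rw [h]
  rfl

theorem index_centralizer_eq_ncard {K : Type*} [Group K] (x : K) :
    (ConjClasses.mk x).carrier.ncard = (Subgroup.centralizer ({x} : Set K)).index := by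
  rw [← ConjAct.orbit_eq_carrier_conjClasses, ← MulAction.index_stabilizer (ConjAct K),
    ConjAct.stabilizer_eq_centralizer]
  rfl

/-- The centralizer of a good element: `m` is a power of a prime `r`, and the elements of coprime
prime power orders of the centralizer commute. -/
theorem Hyp.centralizer_good (H : Hyp G n m) {p : ℕ} (hp : p.Prime) {u0 : G} (hu : QEl p u0)
    (hcu : cl u0 = n) (hpm : ¬ p ∣ m) :
    ∃ r b : ℕ, r.Prime ∧ m = r ^ b ∧ r ∣ m ∧
      (∀ (s : ℕ) (v : G), s.Prime → QEl s v → cl v = m → s = r) ∧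
      ∀ (s t : ℕ), s.Prime → t.Prime → s ≠ t → ∀ x ∈ C u0, ∀ y ∈ C u0,
        QEl s x → QEl t y → Commute x y := by
  classical
  haveI := Fact.mk hp
  have hcomm := H.comm_of_good hp hu hcu hpm
  set K := C u0 with hKdef
  -- class sizes in the centralizer
  have hrel : ∀ h ∈ K, (orderOf h).Coprime p → (C h).relIndex K = 1 ∨ (C h).relIndex K = m := by
    intro h hh ho
    have hc : Commute u0 h := (commute_iff.2 hh).symm
    have e : cl (u0 * h) = (C h).relIndex K * n := by
      show (C (u0 * h)).index = _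
      rw [CfsgLib.ClassSizeMid.C_mul_eq_inf hc (coprime_of_el hu ho), relIndex_inf_index,
        show (C u0).index = n from hcu]
    rcases H.mem (u0 * h) with e' | e' | e' | e' <;> rw [e] at e'
    · exact absurd (Nat.eq_one_of_mul_eq_one_left e') H.hn.ne'
    · exact Or.inl (Nat.eq_of_mul_eq_mul_right (lt_trans zero_lt_one H.hn)
        (e'.trans (one_mul n).symm))
    · exact absurd (Nat.dvd_one.1 (H.hcop ▸ Nat.dvd_gcd dvd_rfl (e' ▸ dvd_mul_left n _))) H.hn.ne'
    · exact Or.inr (Nat.eq_of_mul_eq_mul_right (lt_trans zero_lt_one H.hn)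
        (e'.trans (mul_comm _ _)))
  obtain ⟨P⟩ : Nonempty (Sylow p K) := inferInstance
  obtain ⟨hPn, N, hNn, hpN, hinf, hsup⟩ := Cfsg.Agent.S4035.result (G := K) (p := p) (fun x hx => by
    rw [index_centralizer_eq_ncard, index_centralizer_coe]
    rcases hrel x x.2 (by rwa [Subgroup.orderOf_coe]) with e | e <;> rw [e]
    · exact hp.not_dvd_one
    · exact hpm) P
  -- the elements of order prime to `p` lie in `N`
  have hNcop : (Nat.card N).Coprime p := (hp.coprime_iff_not_dvd.2 hpN).symm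
  have hmemN : ∀ x : K, (orderOf x).Coprime p → x ∈ N := by
    intro x hx
    haveI := hNn
    rw [← QuotientGroup.eq_one_iff, ← orderOf_eq_one_iff]
    refine Nat.dvd_one.1 ?_
    have h1 : orderOf (QuotientGroup.mk x : K ⧸ N) ∣ orderOf x :=
      orderOf_map_dvd (QuotientGroup.mk' N) x
    obtain ⟨j, hj⟩ := P.isPGroup'.exists_card_eq
    have h2 : orderOf (QuotientGroup.mk x : K ⧸ N) ∣ p ^ j := by
      refine (_root_.orderOf_dvd_natCard _).trans (hj ▸ ?_)
      have hc := Subgroup.isComplement'_of_disjoint_and_mul_eq_univ (disjoint_iff.mpr hinf)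
        (by rw [← Subgroup.mul_normal, hsup, Subgroup.coe_top])
      rw [← Subgroup.index_eq_card, hc.index_eq_card]
    exact (Nat.Coprime.pow_right j hx) ▸ Nat.dvd_gcd h1 h2
  have hPN : ∀ x ∈ (P : Subgroup K), ∀ y ∈ N, Commute x y := fun x hx y hy =>
    Subgroup.commute_of_normal_of_disjoint _ _ hPn hNn (disjoint_iff.mpr hinf) x y hx hy
  have hNcl : ∀ x : N, (Subgroup.centralizer ({x} : Set N)).index =
      (C ((x : K) : G)).relIndex K := by
    intro x
    rw [index_centralizer_coe N x, ← index_centralizer_coe K (x : K)]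
    haveI := hNn
    have hle : (P : Subgroup K) ≤ C (x : K) := fun y hy => mem_C.2 (hPN y hy _ x.2).eq
    have htop : C (x : K) ⊔ N = ⊤ := top_le_iff.1 (hsup ▸ sup_le_sup_right hle N)
    have e1 := (relIndex_inf_index (C (x : K)) N).symm.trans (relIndex_inf_index' (C (x : K)) N)
    have e2 : N.relIndex (C (x : K)) = N.index := by
      rw [← Subgroup.relIndex_sup_right, htop, Subgroup.relIndex_top_right]
    rw [e2, mul_comm] at e1
    exact (Nat.eq_of_mul_eq_mul_right (Nat.pos_of_ne_zero Subgroup.index_ne_zero_of_finite) e1).symm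
  have hNsz : ∀ x : N, (Subgroup.centralizer ({x} : Set N)).index = 1 ∨
      (Subgroup.centralizer ({x} : Set N)).index = m := by
    intro x
    rw [hNcl]
    refine hrel _ (x : K).2 ?_
    rw [Subgroup.orderOf_coe, Subgroup.orderOf_coe]
    exact Nat.Coprime.of_dvd_left (_root_.orderOf_dvd_natCard x) hNcop
  -- a Sylow subgroup for a divisor of `m` inside `K`
  have hsyl : ∀ r : ℕ, r.Prime → r ∣ m → ∀ v ∈ K, cl v = m →
      (∀ y ∈ K, QEl r y → Commute v y) → False := by
    intro r hr hrm v _ hv hall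
    haveI := Fact.mk hr
    obtain ⟨R, hR⟩ := exists_sylow_le (p := r) (H := K)
      (by rw [hKdef, show (C u0).index = n from hcu]; exact H.not_dvd_n hr hrm)
    exact R.not_dvd_index (hrm.trans (hv ▸ Subgroup.index_dvd_of_le fun y hy =>
      commute_iff.1 (hall y (hR hy) (qel_of_mem R.isPGroup' hy)).symm))
  obtain ⟨v0, hv0⟩ := H.exm
  have hv0K : v0 ∈ K := commute_iff.1 (hcomm u0 v0 hcu hv0).symm
  have hex : ∃ x : N, (Subgroup.centralizer ({x} : Set N)).index = m := by
    by_contra hne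
    obtain ⟨r, hr, hrm⟩ := Nat.exists_prime_and_dvd H.hm.ne'
    refine hsyl r hr hrm v0 hv0K hv0 fun y hy hry => ?_
    have hrp : r ≠ p := fun e => hpm (e ▸ hrm)
    obtain ⟨k, hk⟩ := hry
    have hyN : (⟨y, hy⟩ : K) ∈ N := hmemN _ (by
      rw [Subgroup.orderOf_mk, hk]
      exact ((Nat.coprime_primes hr hp).2 hrp).pow_left k)
    have h1 := (hNsz ⟨_, hyN⟩).resolve_right fun e => hne ⟨_, e⟩
    rw [hNcl] at h1
    exact commute_iff.2 ((Subgroup.relIndex_eq_one.1 h1) hv0K)
  obtain ⟨r, hr', b, hmb, hR⟩ := Cfsg.Agent.S4134.result m H.hm hNsz hex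
  have hr : r.Prime := hr'.out
  have hb0 : b ≠ 0 := by rintro rfl; exact H.hm.ne' (by simpa using hmb)
  have hrm : r ∣ m := hmb ▸ dvd_pow_self r hb0
  have hrp : r ≠ p := fun e => hpm (e ▸ hrm)
  obtain ⟨R⟩ : Nonempty (Sylow r N) := inferInstance
  obtain ⟨hRn, ⟨A, hAn, hAc, hAcomm, hAR⟩, -⟩ := hR R
  -- `N` elements of order prime to `r` are central in `N`
  have hcen : ∀ x : N, (orderOf x).Coprime r → ∀ y : N, Commute x y := by
    intro x hx y
    haveI := hAn
    haveI := hAcomm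
    have hxA : x ∈ A := by
      rw [← QuotientGroup.eq_one_iff, ← orderOf_eq_one_iff]
      refine Nat.dvd_one.1 ?_
      have h1 : orderOf (QuotientGroup.mk x : N ⧸ A) ∣ orderOf x :=
        orderOf_map_dvd (QuotientGroup.mk' A) x
      obtain ⟨j, hj⟩ := R.isPGroup'.exists_card_eq
      have h2 : orderOf (QuotientGroup.mk x : N ⧸ A) ∣ r ^ j := by
        refine (_root_.orderOf_dvd_natCard _).trans (hj ▸ ?_)
        rw [← Subgroup.index_eq_card, (Subgroup.IsComplement'.symm hAc).index_eq_card]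
      exact (Nat.Coprime.pow_right j hx) ▸ Nat.dvd_gcd h1 h2
    obtain ⟨a, ha, c, hc, rfl⟩ : y ∈ (A : Set N) * ((R : Subgroup N) : Set N) := by
      rw [hAc.mul_eq]; exact Set.mem_univ y
    have h1 : Commute x a := congrArg Subtype.val (mul_comm' (⟨x, hxA⟩ : A) ⟨a, ha⟩)
    exact h1.mul_right (hAR x hxA c hc)
  have hpair : ∀ (s t : ℕ), s.Prime → t.Prime → s ≠ t → ∀ x ∈ K, ∀ y ∈ K,
      QEl s x → QEl t y → Commute x y := by
    intro s t hs ht hst x hx y hy hsx hty
    suffices Commute (⟨x, hx⟩ : K) ⟨y, hy⟩ from congrArg Subtype.val this.eq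
    have inN : ∀ {s : ℕ} {x : K}, s.Prime → s ≠ p → QEl s (x : G) → x ∈ N := by
      intro s x hs hsp ⟨k, hk⟩
      exact hmemN x (by rw [← Subgroup.orderOf_coe, hk]; exact ((Nat.coprime_primes hs hp).2 hsp).pow_left k)
    have inP : ∀ {x : K}, QEl p (x : G) → x ∈ (P : Subgroup K) := by
      intro x ⟨k, hk⟩
      haveI := hPn
      exact CfsgLib.ClassSizeNM.mem_sylow_of_normal ⟨k, by rw [← Subgroup.orderOf_coe, hk]⟩
    by_cases hsp : s = p
    · subst hsp; exact hPN _ (inP hsx) _ (inN ht (Ne.symm hst) hty)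
    by_cases htp : t = p
    · subst htp; exact (hPN _ (inP hty) _ (inN hs hsp hsx)).symm
    have hxN := inN (x := ⟨x, hx⟩) hs hsp hsx
    have hyN := inN (x := ⟨y, hy⟩) ht htp hty
    suffices Commute (⟨_, hxN⟩ : N) ⟨_, hyN⟩ from congrArg Subtype.val this.eq
    by_cases hsr : s = r
    · obtain ⟨k, hk⟩ := hty
      exact (hcen ⟨_, hyN⟩ (by
        rw [Subgroup.orderOf_mk, Subgroup.orderOf_mk, hk]
        exact ((Nat.coprime_primes ht hr).2 (fun e => hst (hsr.trans e.symm))).pow_left k) _).symm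
    · obtain ⟨k, hk⟩ := hsx
      exact hcen ⟨_, hxN⟩ (by
        rw [Subgroup.orderOf_mk, Subgroup.orderOf_mk, hk]
        exact ((Nat.coprime_primes hs hr).2 hsr).pow_left k) _
  refine ⟨r, b, hr, hmb, hrm, fun s v hs hsv hv => ?_, hpair⟩
  by_contra hsr
  have hvK : v ∈ K := commute_iff.1 (hcomm u0 v hcu hv).symm
  exact hsyl r hr hrm v hvK hv fun y hy hry => hpair s r hs hr hsr v hvK y hy hsv hry

/-- The data produced by good elements on both sides. -/
structure Nice (G : Type*) [Group G] (n m p r : ℕ) : Prop where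
  H : Hyp G n m
  hp : p.Prime
  hr : r.Prime
  hn : ∃ a, n = p ^ a
  hm : ∃ b, m = r ^ b
  hpn : p ∣ n
  hrm : r ∣ m
  alln : ∀ (s : ℕ) (x : G), s.Prime → QEl s x → cl x = n → s = p
  pair : ∀ u0 : G, QEl p u0 → cl u0 = n → ∀ (s t : ℕ), s.Prime → t.Prime → s ≠ t →
    ∀ x ∈ C u0, ∀ y ∈ C u0, QEl s x → QEl t y → Commute x y
  allm : ∀ (s : ℕ) (x : G), s.Prime → QEl s x → cl x = m → s = r
  pair' : ∀ v0 : G, QEl r v0 → cl v0 = m → ∀ (s t : ℕ), s.Prime → t.Prime → s ≠ t →
    ∀ x ∈ C v0, ∀ y ∈ C v0, QEl s x → QEl t y → Commute x y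

theorem Nice.symm {p r : ℕ} (N : Nice G n m p r) : Nice G m n r p :=
  ⟨N.H.symm, N.hr, N.hp, N.hm, N.hn, N.hrm, N.hpn, N.allm, N.pair', N.alln, N.pair⟩

theorem Nice.ne {p r : ℕ} (N : Nice G n m p r) : p ≠ r :=
  fun e => N.H.not_dvd_m N.hp N.hpn (e ▸ N.hrm)

theorem Hyp.exists_nice (H : Hyp G n m) {p : ℕ} (hp : p.Prime) {u0 : G} (hu : QEl p u0)
    (hcu : cl u0 = n) (hpm : ¬ p ∣ m) : ∃ p r : ℕ, Nice G n m p r := by
  obtain ⟨r, b, hr, hmb, hrm, hallm, -⟩ := H.centralizer_good hp hu hcu hpm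
  obtain ⟨w, hw⟩ := H.exm
  obtain ⟨v, -, s, hs, hsv, hvm, -⟩ := H.symm.exists_pp hw
  obtain rfl := hallm s v hs hsv hvm
  obtain ⟨p', a, hp', hna, hpn, halln, -⟩ :=
    H.symm.centralizer_good hr hsv hvm (H.not_dvd_n hr hrm)
  refine ⟨p', s, H, hp', hr, ⟨a, hna⟩, ⟨b, hmb⟩, hpn, hrm, halln, ?_, hallm, ?_⟩
  · intro u1 hu1 hcu1
    obtain ⟨_, _, _, _, _, _, h⟩ := H.centralizer_good hp' hu1 hcu1 (H.not_dvd_m hp' hpn)
    exact h
  · intro v1 hv1 hcv1
    obtain ⟨_, _, _, _, _, _, h⟩ := H.symm.centralizer_good hr hv1 hcv1 (H.not_dvd_n hr hrm)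
    exact h

variable {p r : ℕ}

theorem Nice.others (N : Nice G n m p r) :
    ∀ s : ℕ, s.Prime → s ≠ p → s ≠ r → ∀ y : G, QEl s y → y ∈ center G := by
  intro s hs hsp hsr y hy
  obtain ⟨a, ha⟩ := N.hn
  obtain ⟨b, hb⟩ := N.hm
  exact N.H.central_of_not_dvd hs
    (fun h => hsp ((Nat.prime_dvd_prime_iff_eq hs N.hp).1 (hs.dvd_of_dvd_pow (ha ▸ h))))
    (fun h => hsr ((Nat.prime_dvd_prime_iff_eq hs N.hr).1 (hs.dvd_of_dvd_pow (hb ▸ h)))) hy

theorem Nice.exists_u (N : Nice G n m p r) : ∃ u : G, QEl p u ∧ cl u = n := by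
  obtain ⟨a, ha⟩ := N.H.exn
  obtain ⟨u, -, s, hs, hsu, hun, -⟩ := N.H.exists_pp ha
  obtain rfl := N.alln s u hs hsu hun
  exact ⟨u, hsu, hun⟩

/-- The `r`-elements centralise the `p`-core. -/
theorem Nice.commute_pCore (N : Nice G n m p r) {x : G} (hx : QEl r x) :
    ∀ y ∈ Cfsg.pCore p G, Commute x y := by
  haveI := Fact.mk N.hp
  haveI := Fact.mk N.hr
  obtain ⟨u0, hu, hcu⟩ := N.exists_u
  have hO := CfsgLib.Solvable.Cores.isPGroup_pCore (G := G) p
  -- `u0` lies in the `p`-core
  have hu0 : u0 ∈ Cfsg.pCore p G := by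
    obtain ⟨P, hP⟩ := (qel_iff_zpowers.1 hu).exists_le_sylow
    have hcop : (P : Subgroup G).index.Coprime (C u0).index := by
      obtain ⟨a, ha⟩ := N.hn
      rw [show (C u0).index = n from hcu, ha]
      exact ((N.hp.coprime_iff_not_dvd.2 P.not_dvd_index).symm).pow_right a
    have hle : Subgroup.normalClosure ({u0} : Set G) ≤ (P : Subgroup G) := by
      refine (Subgroup.closure_le _).2 fun y hy => ?_
      rw [Group.mem_conjugatesOfSet_iff] at hy
      obtain ⟨w, hw, hy⟩ := hy
      rw [Set.mem_singleton_iff] at hw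
      subst w
      obtain ⟨g, rfl⟩ := isConj_iff.1 hy
      obtain ⟨a, ha, c, hc, rfl⟩ := index_coprime_exists_mul hcop g
      have : a * c * u0 * (a * c)⁻¹ = a * u0 * a⁻¹ := by
        rw [mul_assoc a c u0, mem_C.1 hc]; group
      rw [SetLike.mem_coe, this]
      exact mul_mem (mul_mem ha (hP (mem_zpowers u0))) (inv_mem ha)
    exact CfsgLib.Solvable.Cores.le_pCore (P.isPGroup'.to_le hle)
      (Subgroup.subset_normalClosure rfl)
  obtain ⟨R, hR⟩ := exists_sylow_le (p := r) (H := C u0)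
    (by rw [show (C u0).index = n from hcu]; exact N.H.not_dvd_n N.hr N.hrm)
  set O := Cfsg.pCore p G with hOdef
  set E := O ⊓ Subgroup.centralizer ((R : Subgroup G) : Set G) with hE
  have hu0E : u0 ∈ E := ⟨hu0, Subgroup.mem_centralizer_iff.2 fun y hy => mem_C.1 (hR hy)⟩
  have hsub : ∀ c ∈ O, (∀ e ∈ E, Commute c e) → c ∈ E := by
    intro c hc h
    have hcK : c ∈ C u0 := commute_iff.1 (h u0 hu0E)
    exact ⟨hc, Subgroup.mem_centralizer_iff.2 fun y hy =>
      (N.pair u0 hu hcu r p N.hr N.hp (Ne.symm N.ne) y (hR hy) c hcK (qel_of_mem R.isPGroup' hy)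
        (qel_of_mem hO hc)).eq⟩
  -- `E` is self-normalising in the core
  have hnorm : ∀ g ∈ O, (∀ e ∈ E, g * e * g⁻¹ ∈ E) → g ∈ E := by
    intro g hg hgE
    refine ⟨hg, Subgroup.mem_centralizer_iff.2 fun y hy => ?_⟩
    set c := g⁻¹ * (y⁻¹ * g * y) with hc
    have hyC : ∀ e ∈ E, Commute y e := fun e he => Subgroup.mem_centralizer_iff.1 he.2 y hy
    have hcO : c ∈ O := by
      have h1 : y⁻¹ * g * y⁻¹⁻¹ ∈ O := Subgroup.Normal.conj_mem inferInstance g hg y⁻¹
      rw [inv_inv] at h1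
      exact mul_mem (inv_mem hg) h1
    have hcE : c ∈ E := hsub c hcO fun e he => by
      have h1 := hyC e he
      have h2 := hyC _ (hgE e he)
      show c * e = e * c
      have h3 : y * e * y⁻¹ = e := by rw [h1.eq, mul_inv_cancel_right]
      have h4 : y⁻¹ * (g * e * g⁻¹) * y = g * e * g⁻¹ := by
        rw [mul_assoc, ← h2.eq, inv_mul_cancel_left]
      calc c * e = g⁻¹ * (y⁻¹ * g * (y * e * y⁻¹) * y) := by rw [hc]; group
        _ = g⁻¹ * (y⁻¹ * g * e * y) := by rw [h3]
        _ = g⁻¹ * (y⁻¹ * (g * e * g⁻¹) * y) * (y⁻¹ * g * y) := by group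
        _ = g⁻¹ * (g * e * g⁻¹) * (y⁻¹ * g * y) := by rw [h4]
        _ = e * c := by rw [hc]; group
    have hcy : Commute y c := hyC c hcE
    have hit : ∀ i : ℕ, (y ^ i)⁻¹ * g * y ^ i = g * c ^ i := by
      intro i
      induction i with
      | zero => simp
      | succ i ih =>
        calc (y ^ (i + 1))⁻¹ * g * y ^ (i + 1) = y⁻¹ * ((y ^ i)⁻¹ * g * y ^ i) * y := by
              rw [pow_succ]; group
          _ = y⁻¹ * g * (c ^ i * y) := by rw [ih]; group
          _ = y⁻¹ * g * (y * c ^ i) := by rw [(hcy.pow_right i).eq]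
          _ = (y⁻¹ * g * y) * c ^ i := by group
          _ = g * c * c ^ i := by rw [hc, mul_inv_cancel_left]
          _ = g * c ^ (i + 1) := by rw [mul_assoc, pow_succ']
    have h1 := hit (orderOf y)
    rw [pow_orderOf_eq_one, inv_one, one_mul, mul_one] at h1
    have h2 : c ^ orderOf y = 1 := mul_eq_left.1 h1.symm
    have h3 : c = 1 := by
      refine orderOf_eq_one_iff.1 (Nat.dvd_one.1 ?_)
      exact (coprime_qel N.hp N.hr N.ne (qel_of_mem hO hcO) (qel_of_mem R.isPGroup' hy)) ▸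
        Nat.dvd_gcd dvd_rfl (orderOf_dvd_of_pow_eq_one h2)
    rw [hc, inv_mul_eq_one] at h3
    calc y * g = y * (y⁻¹ * g * y) := by rw [← h3]
      _ = g * y := by group
  have hEO : E.subgroupOf O = ⊤ := by
    by_contra hne
    haveI : Group.IsNilpotent O := hO.isNilpotent
    obtain ⟨⟨g, hg⟩, hgn, hgE⟩ := SetLike.exists_of_lt
      (Group.normalizerCondition_of_isNilpotent _ (lt_top_iff_ne_top.2 hne))
    refine hgE (hnorm g hg fun e he => ?_)
    have := (Subgroup.mem_normalizer_iff.1 hgn ⟨e, he.1⟩).1 he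
    exact this
  intro y hy
  obtain ⟨g, hg⟩ := exists_conj_mem' N.hr hx R.not_dvd_index
  have hyO : g⁻¹ * y * g⁻¹⁻¹ ∈ O := Subgroup.Normal.conj_mem inferInstance y hy g⁻¹
  rw [inv_inv] at hyO
  have hmem : (⟨_, hyO⟩ : O) ∈ E.subgroupOf O := hEO ▸ Subgroup.mem_top _
  have hc : Commute (g⁻¹ * x * g) (g⁻¹ * y * g) := Subgroup.mem_centralizer_iff.1 hmem.2 _ hg
  simpa [mul_assoc] using C_conj_commute (g := g) hc

/-- Nilpotency from the data. -/
theorem Nice.isNilpotent (N : Nice G n m p r) : Group.IsNilpotent G := by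
  haveI := Fact.mk N.hp
  haveI := Fact.mk N.hr
  haveI : Group.IsSolvable G := isSolvable_of_two_primes N.hp N.hr N.others
  have key : ∀ {n m p r : ℕ}, Nice G n m p r → ∀ x : G, QEl p x → x ∈ Cfsg.pCore p G := by
    intro n m p r N x hx
    haveI := Fact.mk N.hp
    haveI := Fact.mk N.hr
    set M := Subgroup.centralizer (Cfsg.pCore r G : Set G) with hM
    haveI : M.Normal := Subgroup.normal_centralizer
    have hpM : ∀ y : G, QEl p y → y ∈ M := fun y hy =>
      Subgroup.mem_centralizer_iff.2 fun w hw => (N.symm.commute_pCore hy w hw).eq.symm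
    have hrM : ∀ z ∈ M, QEl r z → z ∈ Cfsg.pCore r G := fun z hz hzr =>
      mem_pCore_of_centralizes (q := p) N.hr
        (fun s hs h1 h2 => N.others s hs h2 h1) hzr
        (fun w hw => ((Subgroup.mem_centralizer_iff.1 hz w hw) : Commute w z).symm)
        (fun w hw => N.commute_pCore hzr w hw)
    have hnil : Group.IsNilpotent M := isNilpotent_of_commute fun s t hs ht hst a b ha hb => by
      have lift : ∀ {s : ℕ} {a : M}, QEl s a → QEl s (a : G) := fun ⟨k, hk⟩ =>
        ⟨k, by rw [Subgroup.orderOf_coe, hk]⟩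
      suffices Commute (a : G) (b : G) from Subtype.ext this.eq
      by_cases hsr : s = r
      · subst hsr
        exact Subgroup.mem_centralizer_iff.1 b.2 _ (hrM a a.2 (lift ha))
      by_cases htr : t = r
      · subst htr
        exact (show Commute (b : G) (a : G) from
          Subgroup.mem_centralizer_iff.1 a.2 _ (hrM b b.2 (lift hb))).symm
      by_cases hsp : s = p
      · exact Subgroup.mem_center_iff.1
          (N.others t ht (fun e => hst (hsp.trans e.symm)) htr b (lift hb)) _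
      · exact (Subgroup.mem_center_iff.1 (N.others s hs hsp hsr a (lift ha)) _).symm
    exact mem_pCore_of_mem_fitting N.hp hx
      (CfsgLib.Solvable.Cores.le_fittingSubgroup hnil (hpM x hx))
  refine isNilpotent_of_commute fun s t hs ht hst a b ha hb => ?_
  by_cases hsp : s = p
  · subst hsp
    by_cases htr : t = r
    · subst htr; exact (N.commute_pCore hb a (key N a ha)).symm
    · exact Subgroup.mem_center_iff.1 (N.others t ht (Ne.symm hst) htr b hb) _
  by_cases hsr : s = r
  · subst hsr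
    by_cases htp : t = p
    · subst htp; exact N.commute_pCore ha b (key N b hb)
    · exact Subgroup.mem_center_iff.1 (N.others t ht htp (Ne.symm hst) b hb) _
  exact (Subgroup.mem_center_iff.1 (N.others s hs hsp hsr a ha) _).symm

end CfsgLib.ClassSizeNM
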