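import Cfsg.Agent.Lib.ClassSizeNM.Good

/-!
Class sizes `1`, `n`, `m`, `n * m`: the case where the primes of all elements of prime power order
with class size `n` divide `m`, and conversely, does not occur.
-/

set_option autoImplicit false
set_option linter.style.haveILetI false
set_option linter.unusedSectionVars false

namespace CfsgLib.ClassSizeNM

open Subgroup Cfsg.Agent.CoprimeTopClasses
open CfsgLib.ClassSizeMid (QEl CoEl exists_parts coprime_of_el qel_iff_zpowers qel_of_mem)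

variable {G : Type*} [Group G] [Finite G] {n m : ℕ}

/-- No element of prime power order is good. -/
def NoGoodElement (G : Type*) [Group G] (n m : ℕ) : Prop :=
  (∀ (p : ℕ) (u : G), p.Prime → QEl p u → cl u = n → p ∣ m) ∧
    ∀ (q : ℕ) (v : G), q.Prime → QEl q v → cl v = m → q ∣ n

/-- Without good elements some elements with class sizes `n` and `m` do not commute. -/
theorem Hyp.false_of_comm (H : Hyp G n m) (hng : NoGoodElement G n m) (hc : Comm G n m) : False := by
  obtain ⟨a, ha⟩ := H.exn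
  obtain ⟨u, -, p, hp, hu, hcu, -⟩ := H.exists_pp ha
  have hpm := hng.1 p u hp hu hcu
  have hpn := H.not_dvd_n hp hpm
  haveI := Fact.mk hp
  obtain ⟨b, hb⟩ := H.exm
  set M : G → G := fun k => k * u * k⁻¹ with hM
  have hMn : ∀ k, cl (M k) = n := fun k => (cl_conj u k).trans hcu
  have hMp : ∀ k, QEl p (M k) := fun k => hu.conj k
  -- elements of prime power order prime to `p`
  have base : ∀ (t : ℕ) (g : G), t.Prime → t ≠ p → QEl t g →
      (∀ k, Commute g (M k)) ∨ ∃ k, C g ≤ C (M k) := by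
    intro t g ht htp hg
    by_cases hz : g ∈ center G
    · exact Or.inl fun k => (Subgroup.mem_center_iff.1 hz (M k)).symm
    rcases H.cases hz with e | e | e
    · obtain ⟨k, hk⟩ := H.exists_conj_C_eq ht hp htp hg hu hpm e hcu
      exact Or.inr ⟨k, hk.ge⟩
    · exact Or.inl fun k => (hc (M k) g (hMn k) e).symm
    refine Or.inr ?_
    by_cases htn : t ∣ n
    · obtain ⟨l, hl⟩ := exists_commute_conj ht hg (a := b)
        (by rw [hb]; exact H.not_dvd_m ht htn)
      set v := l * b * l⁻¹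
      have hv : cl v = m := (cl_conj b l).trans hb
      have hs : ∀ s ∈ C g, QEl p s → s ∈ C v := fun s hs hps =>
        mem_C_symm (H.le_C_of_nm e (commute_iff.2 hs).symm (coprime_qel ht hp htp hg hps)
          (commute_iff.1 hl.symm))
      obtain ⟨k, -, hk⟩ := exists_conj_le_rel hp (qel_iff_zpowers.1 hu) (K := C v)
        (D := C g ⊓ C v) (Subgroup.zpowers_le.2 (commute_iff.1 (hc u v hcu hv)))
        (H.not_dvd_relIndex_of_nm e hv hp hpn hs)
      have h1 : M k⁻¹ ∈ C g := by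
        simpa [hM] using (hk u (mem_zpowers u)).1
      exact ⟨k⁻¹, H.le_C_of_nm e (commute_iff.2 h1).symm (coprime_qel ht hp htp hg (hMp _))⟩
    · obtain ⟨k, hk⟩ := exists_commute_conj ht hg (a := u) (by rw [hcu]; exact htn)
      exact ⟨k, H.le_C_of_nm e hk (coprime_qel ht hp htp hg (hMp k))⟩
  -- every element commutes with a conjugate of `u`
  have hall : ∀ g, ∃ k, g ∈ C (M k) := by
    intro g
    haveI := Fact.mk hp
    obtain ⟨y₁, h1, y₂, h2, hg, hy1, hy2⟩ := exists_parts p g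
    by_cases hsec : ∃ y ∈ zpowers y₂, ∃ k, C y ≤ C (M k)
    · obtain ⟨y, hy, k, hk⟩ := hsec
      exact ⟨k, hk (zpow_C ((Subgroup.zpowers_le.2 h2) hy) (self_mem_C g))⟩
    obtain ⟨k, hk⟩ := exists_commute_conj hp hy1 (a := u) (by rw [hcu]; exact hpn)
    refine ⟨k, hg ▸ mul_mem (commute_iff.1 hk) (mem_of_qel _ y₂ fun y hy s hs hsd hsy => ?_)⟩
    have hsp : s ≠ p := fun e =>
      hp.one_lt.ne' (Nat.dvd_one.1 (hy2 ▸ Nat.dvd_gcd (e ▸ hsd) dvd_rfl))
    exact commute_iff.1
      (((base s y hs hsp hsy).resolve_right fun ⟨k', hk'⟩ => hsec ⟨y, hy, k', hk'⟩) k)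
  have hne : C u ≠ ⊤ := fun e => H.hn.ne' (hcu.symm.trans (Subgroup.index_eq_one.2 e))
  obtain ⟨x, hx⟩ := CfsgLib.Derangements.Basic.exists_notMem_conj hne
  obtain ⟨k, hk⟩ := hall x
  refine hx k⁻¹ ((conj_mem_C (g := k)).1 ?_)
  simpa [hM, mul_assoc] using hk

/-- A pair of non-commuting elements of prime power order with class sizes `n` and `m`. -/
structure Bad (G : Type*) [Group G] (n m p q : ℕ) (u v : G) : Prop where
  H : Hyp G n m
  hng : NoGoodElement G n m
  hp : p.Prime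
  hq : q.Prime
  hu : QEl p u
  hv : QEl q v
  hcu : cl u = n
  hcv : cl v = m
  hnc : ¬ Commute u v

theorem Hyp.exists_bad (H : Hyp G n m) (hng : NoGoodElement G n m) :
    ∃ (p q : ℕ) (u v : G), Bad G n m p q u v := by
  by_contra hne
  refine H.false_of_comm hng fun a b ha hb => by_contra fun hab => ?_
  obtain ⟨u, -, p, hp, hu, hcu, hCu⟩ := H.exists_pp ha
  obtain ⟨v, -, q, hq, hv, hcv, hCv⟩ := H.symm.exists_pp hb
  refine hne ⟨p, q, u, v, H, hng, hp, hq, hu, hv, hcu, hcv, fun huv => hab ?_⟩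
  have h1 : u ∈ C b := hCv ▸ commute_iff.1 huv
  have h2 : b ∈ C a := hCu ▸ mem_C_symm h1
  exact (commute_iff.2 h2).symm

variable {p q : ℕ} {u v : G}

theorem Bad.symm (B : Bad G n m p q u v) : Bad G m n q p v u :=
  ⟨B.H.symm, ⟨B.hng.2, B.hng.1⟩, B.hq, B.hp, B.hv, B.hu, B.hcv, B.hcu, fun h => B.hnc h.symm⟩

theorem Bad.hpm (B : Bad G n m p q u v) : p ∣ m := B.hng.1 p u B.hp B.hu B.hcu

theorem Bad.hqn (B : Bad G n m p q u v) : q ∣ n := B.hng.2 q v B.hq B.hv B.hcv

theorem Bad.ne (B : Bad G n m p q u v) : p ≠ q :=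
  fun e => B.H.not_dvd_m B.hq B.hqn (e ▸ B.hpm)

theorem Bad.not_commute_conj (B : Bad G n m p q u v) (g : G) : ¬ Commute u (g * v * g⁻¹) :=
  fun h => B.hnc (B.H.commute_of_conj B.hcu B.hcv h)

theorem Bad.not_commute_conj' (B : Bad G n m p q u v) (g : G) : ¬ Commute (g * u * g⁻¹) v :=
  fun h => B.hnc (B.H.commute_of_conj' B.hcu B.hcv h)

/-- An element of class size `m` of order a power of `q` commutes with `u`. -/
theorem Bad.exists_w (B : Bad G n m p q u v) :
    ∃ w : G, QEl q w ∧ cl w = m ∧ Commute u w := by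
  have H := B.H
  have hrel := fun a : G => relIndex_mul_cl (G := G) a
  -- a non-central element of order prime to `p` in `C u`
  obtain ⟨r, x, hr, hrn, hx, hxu, hxc⟩ : ∃ (r : ℕ) (x : G),
      r.Prime ∧ r ∣ n ∧ QEl r x ∧ x ∈ C u ∧ x ∉ center G := by
    by_contra hne
    have hcen : ∀ g : G, cl g = n ∨ cl g = n * m → ∀ r : ℕ, r.Prime → r ∣ n →
        ∀ y ∈ C g, QEl r y → y ∈ center G := by
      intro g hg r hr hrn y hy hry
      refine mem_of_not_dvd_relIndex hr hry hy fun hd => ?_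
      refine not_dvd_relIndex hr (H := C u)
        (fun a ha hk => by_contra fun hac => hne ⟨r, a, hr, hrn, hk, ha, hac⟩) ?_
      rcases hg with e | e
      · have h1 : (center G).relIndex (C g) * n = (center G).relIndex (C u) * n := by
          rw [← e, hrel g, e, ← B.hcu, hrel u]
        rwa [← Nat.eq_of_mul_eq_mul_right (lt_trans zero_lt_one H.hn) h1]
      · have h1 : (center G).relIndex (C g) * (n * m) = (center G).relIndex (C u) * n := by
          rw [← e, hrel g, ← B.hcu, hrel u]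
        rw [← Nat.eq_of_mul_eq_mul_right (lt_trans zero_lt_one H.hn)
          (show (center G).relIndex (C g) * m * n = (center G).relIndex (C u) * n by
            rw [← h1]; ring)]
        exact dvd_mul_of_dvd_left hd m
    obtain ⟨g, hg⟩ := H.exnm
    obtain ⟨y, hy, t, ht, hty, hyc⟩ :=
      exists_qel_notMem (center G) (H.not_central (Or.inr (Or.inr hg)))
    have hyg : y ∈ C g := mem_C_symm (zpow_C hy (self_mem_C g))
    have htn : ¬ t ∣ n := fun htn => hyc (hcen g (Or.inr hg) t ht htn y hyg hty)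
    have hd : t ∣ (center G).relIndex (C v) := by
      have h1 : (center G).relIndex (C g) * (n * m) = (center G).relIndex (C v) * m := by
        rw [← hg, hrel g, ← B.hcv, hrel v]
      rw [← Nat.eq_of_mul_eq_mul_right (lt_trans zero_lt_one H.hm)
        (show (center G).relIndex (C g) * n * m = (center G).relIndex (C v) * m by
          rw [← h1]; ring)]
      exact dvd_mul_of_dvd_left (by
        by_contra hd
        exact hyc (mem_of_not_dvd_relIndex ht hty hyg hd)) n
    refine not_dvd_relIndex ht (fun a ha hka => by_contra fun hac => ?_) hd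
    have hca : cl a = n ∨ cl a = n * m := by
      rcases H.cases hac with e | e | e
      · exact Or.inl e
      · exact absurd (B.hng.2 t a ht hka e) htn
      · exact Or.inr e
    exact H.not_central (Or.inr (Or.inl B.hcv))
      (hcen a hca q B.hq B.hqn v (mem_C_symm ha) B.hv)
  have hrm := H.not_dvd_m hr hrn
  have hrp : r ≠ p := fun e => hrm (e ▸ B.hpm)
  have hux : Commute u x := (commute_iff.2 hxu).symm
  have hxm : cl x = m := by
    rcases H.cases hxc with e | e | e
    · exact absurd (B.hng.1 r x hr hx e) hrm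
    · exact e
    · have hle := H.le_C_of_nm e hux.symm (coprime_qel hr B.hp hrp hx B.hu)
      obtain ⟨g, hg⟩ := exists_commute_conj hr hx (a := v) (by rw [B.hcv]; exact hrm)
      exact absurd (commute_iff.2 (hle (commute_iff.1 hg.symm))).symm (B.not_commute_conj g)
  by_cases hrq : r = q
  · subst hrq; exact ⟨x, hx, hxm, hux⟩
  obtain ⟨g, hg⟩ := H.symm.exists_conj_C_eq hr B.hq hrq hx B.hv B.hqn hxm B.hcv
  exact absurd (commute_iff.2 (hg.symm ▸ hxu' hux : u ∈ C (g * v * g⁻¹))) (B.not_commute_conj g)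
where
  hxu' {u x : G} (h : Commute u x) : u ∈ C x := commute_iff.1 h

/-- The elements of prime power order with class size `m` are `q`-elements. -/
theorem Bad.allm (B : Bad G n m p q u v) :
    ∀ (s : ℕ) (y : G), s.Prime → QEl s y → cl y = m → s = q := by
  intro s y hs hy hcy
  by_contra hne
  have hsn := B.hng.2 s y hs hy hcy
  obtain ⟨w, hw, hcw, huw⟩ := B.exists_w
  obtain ⟨g, hg⟩ := B.H.symm.exists_conj_C_eq B.hq hs (Ne.symm hne) B.hv hy hsn B.hcv hcy
  obtain ⟨l, hl⟩ := B.H.symm.exists_conj_C_eq B.hq hs (Ne.symm hne) hw hy hsn hcw hcy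
  have h1 : u ∈ C (l * y * l⁻¹) := hl.symm ▸ commute_iff.1 huw
  have h2 := (conj_mem_C (g := g * l⁻¹)).2 h1
  have h3 : g * l⁻¹ * (l * y * l⁻¹) * (g * l⁻¹)⁻¹ = g * y * g⁻¹ := by group
  rw [h3, hg] at h2
  exact B.not_commute_conj' _ (commute_iff.2 h2)

theorem Bad.alln (B : Bad G n m p q u v) :
    ∀ (s : ℕ) (y : G), s.Prime → QEl s y → cl y = n → s = p := B.symm.allm

theorem Bad.pow_n (B : Bad G n m p q u v) : ∃ a, n = q ^ a := by
  have H := B.H
  haveI := Fact.mk B.hp
  haveI := Fact.mk B.hq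
  refine ⟨_, Nat.eq_prime_pow_of_unique_prime_dvd (lt_trans zero_lt_one H.hn).ne'
    fun {s} hs hsn => ?_⟩
  by_contra hsq
  have hsm := H.not_dvd_m hs hsn
  have hsp : s ≠ p := fun e => hsm (e ▸ B.hpm)
  obtain ⟨w, hw, hcw, huw⟩ := B.exists_w
  have hcen : ∀ y : G, QEl s y → y ∈ center G := by
    intro y hy
    by_contra hyc
    have e : cl y = n * m := by
      rcases H.cases hyc with e | e | e
      · exact absurd (B.alln s y hs hy e) hsp
      · exact absurd (B.allm s y hs hy e) hsq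
      · exact e
    obtain ⟨k, hk⟩ := exists_commute_conj hs hy (a := w) (by rw [hcw]; exact hsm)
    set w' := k * w * k⁻¹
    have hcw' : cl w' = m := (cl_conj w k).trans hcw
    have hle := H.le_C_of_nm e hk (coprime_qel hs B.hq hsq hy (hw.conj k))
    have hrel := Subgroup.relIndex_mul_index hle
    change _ * cl w' = cl y at hrel
    rw [hcw', e] at hrel
    have hpd : ¬ p ∣ (C y).relIndex (C w') :=
      Nat.eq_of_mul_eq_mul_right (lt_trans zero_lt_one H.hm) hrel ▸ H.not_dvd_n B.hp B.hpm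
    obtain ⟨c, -, hc⟩ := exists_conj_le_rel B.hp (qel_iff_zpowers.1 (B.hu.conj k))
      (Subgroup.zpowers_le.2 (commute_iff.1 (C_conj_commute (g := k) huw))) hpd
    have h1 := hc _ (mem_zpowers (k * u * k⁻¹))
    rw [show c⁻¹ * (k * u * k⁻¹) * c = c⁻¹ * k * u * (c⁻¹ * k)⁻¹ by group] at h1
    have hle' := H.le_C_of_nm e (commute_iff.2 h1).symm
      (coprime_qel hs B.hp hsp hy (B.hu.conj _))
    obtain ⟨g, hg⟩ := exists_commute_conj hs hy (a := v) (by rw [B.hcv]; exact hsm)
    have h2 : Commute (g * v * g⁻¹) (c⁻¹ * k * u * (c⁻¹ * k)⁻¹) :=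
      commute_iff.2 (hle' (commute_iff.1 hg.symm))
    refine B.not_commute_conj' (g⁻¹ * (c⁻¹ * k)) ?_
    have := C_conj_commute (g := g⁻¹) h2.symm
    simpa [mul_assoc] using this
  haveI := Fact.mk hs
  obtain ⟨S⟩ : Nonempty (Sylow s G) := inferInstance
  refine S.not_dvd_index (dvd_trans (dvd_trans hsn (B.hcu ▸ ?_))
    (Subgroup.index_dvd_of_le (fun y hy => hcen y (qel_of_mem S.isPGroup' hy) :
      (S : Subgroup G) ≤ center G)))
  exact Subgroup.index_dvd_of_le (center_le_C u)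

theorem Bad.others (B : Bad G n m p q u v) :
    ∀ s : ℕ, s.Prime → s ≠ p → s ≠ q → ∀ y : G, QEl s y → y ∈ center G := by
  intro s hs hsp hsq y hy
  obtain ⟨a, ha⟩ := B.pow_n
  obtain ⟨b, hb⟩ := B.symm.pow_n
  exact B.H.central_of_not_dvd hs
    (fun h => hsq ((Nat.prime_dvd_prime_iff_eq hs B.hq).1 (hs.dvd_of_dvd_pow (ha ▸ h))))
    (fun h => hsp ((Nat.prime_dvd_prime_iff_eq hs B.hp).1 (hs.dvd_of_dvd_pow (hb ▸ h)))) hy

/-- A non-central `p`-element has class size a multiple of `n`. -/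
theorem Bad.n_dvd (B : Bad G n m p q u v) {c : G} (hc : QEl p c) (hcc : c ∉ center G) :
    n ∣ cl c := by
  rcases B.H.cases hcc with e | e | e
  · exact e.symm ▸ dvd_rfl
  · exact absurd (B.allm p c B.hp hc e) B.ne
  · exact e.symm ▸ dvd_mul_right n m

/-- The commutation argument inside an abelian `p`-subgroup normalised by a Sylow `q`-subgroup. -/
theorem Bad.commute_of_abelian (B : Bad G n m p q u v) {A : Subgroup G} (hA : IsPGroup p A)
    (hAc : ∀ x ∈ A, ∀ y ∈ A, Commute x y) {Q : Sylow q G}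
    (hQA : ∀ x ∈ (Q : Subgroup G), ∀ c ∈ A, x * c * x⁻¹ ∈ A) {v' : G}
    (hvQ : v' ∈ (Q : Subgroup G)) (hQv : (Q : Subgroup G) ≤ C v') {a a0 : G} (ha : a ∈ A)
    (ha0 : a0 ∈ A) (hca : cl a = n) (hca0 : a0 ∉ center G)
    (h1n : cl (a * a0) = 1 ∨ cl (a * a0) = n) (hc0 : Commute v' a0) : Commute v' a := by
  haveI := Fact.mk B.hp
  haveI := Fact.mk B.hq
  obtain ⟨j, hj⟩ := B.pow_n
  set o := orderOf v' with ho
  have hmem : ∀ c ∈ A, ∀ i : ℕ, (c * v') ^ i * (v' ^ i)⁻¹ ∈ A := by
    intro c hc i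
    induction i with
    | zero => simp
    | succ i ih =>
      have e : (c * v') ^ (i + 1) * (v' ^ (i + 1))⁻¹ =
          (c * v') ^ i * (v' ^ i)⁻¹ * (v' ^ i * c * (v' ^ i)⁻¹) := by
        rw [pow_succ, pow_succ]; group
      rw [e]
      exact mul_mem ih (hQA _ (pow_mem hvQ i) c hc)
  have hφA : ∀ c ∈ A, (c * v') ^ o ∈ A := by
    intro c hc
    have := hmem c hc o
    rwa [ho, pow_orderOf_eq_one, inv_one, mul_one] at this
  -- the main step
  have core : ∀ c ∈ A, cl c = n → (c * v') ^ o ∉ center G → Commute v' c := by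
    intro c hc hcn hφ
    set f := (c * v') ^ o with hf
    have hfA : f ∈ A := hφA c hc
    have hfv : Commute f v' := by
      have h1 : Commute f (c * v') := (Commute.refl (c * v')).pow_left o
      have h2 : Commute f c := hAc f hfA c hc
      simpa using h2.inv_right.mul_right h1
    have hle : C c ⊓ (Q : Subgroup G) ≤ C f ⊓ (Q : Subgroup G) := fun y hy =>
      ⟨commute_iff.1 (((commute_iff.2 hy.1).mul_right (commute_iff.2 (hQv hy.2))).pow_right o),
        hy.2⟩
    have hQi : n.Coprime (Q : Subgroup G).index :=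
      hj ▸ (B.hq.coprime_iff_not_dvd.2 Q.not_dvd_index).pow_left j
    have h1 : n * (Q : Subgroup G).index ∣ (C f ⊓ (Q : Subgroup G)).index :=
      hQi.mul_dvd_of_dvd_of_dvd
        ((B.n_dvd (qel_of_mem hA hfA) hφ).trans (Subgroup.index_dvd_of_le inf_le_left))
        (Subgroup.index_dvd_of_le inf_le_right)
    have h2 : (C c ⊓ (Q : Subgroup G)).index ≤ n * (Q : Subgroup G).index :=
      hcn ▸ Subgroup.index_inf_le
    have h3 := Subgroup.relIndex_mul_index hle
    have hpos : 0 < (C f ⊓ (Q : Subgroup G)).index :=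
      Nat.pos_of_ne_zero Subgroup.index_ne_zero_of_finite
    have h4 : (C c ⊓ (Q : Subgroup G)).index = (C f ⊓ (Q : Subgroup G)).index :=
      le_antisymm (h2.trans (Nat.le_of_dvd hpos h1))
        (Nat.le_of_dvd (Nat.pos_of_ne_zero Subgroup.index_ne_zero_of_finite)
          (Subgroup.index_dvd_of_le hle))
    rw [h4] at h3
    have h5 : (C c ⊓ (Q : Subgroup G)).relIndex (C f ⊓ (Q : Subgroup G)) = 1 :=
      Nat.eq_of_mul_eq_mul_right hpos (h3.trans (one_mul _).symm)
    exact commute_iff.2 ((Subgroup.relIndex_eq_one.1 h5) ⟨commute_iff.1 hfv.symm, hvQ⟩).1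
  by_cases hφ : (a * v') ^ o ∈ center G
  swap
  · exact core a ha hca hφ
  have hav : Commute (a * v') a0 := (hAc a ha a0 ha0).mul_left hc0
  have hprod : (a * a0 * v') ^ o = (a * v') ^ o * a0 ^ o := by
    rw [← hav.mul_pow, mul_assoc a a0 v', ← hc0.eq, ← mul_assoc]
  have hne : (a * a0 * v') ^ o ∉ center G := by
    intro h
    rw [hprod] at h
    have h0 : a0 ^ o ∈ center G := (Subgroup.mul_mem_cancel_left _ hφ).1 h
    obtain ⟨i, hi⟩ := exists_pow_eq_self_of_coprime (x := a0) (n := o)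
      (coprime_qel B.hp B.hq B.ne (qel_of_mem hA ha0) (qel_of_mem Q.isPGroup' hvQ)).symm
    exact hca0 (hi ▸ pow_mem h0 i)
  rcases h1n with e | e
  · -- `a * a0` is central
    have hz := CfsgLib.ClassSizeMid.cl_eq_one_iff.1 e
    have h1 : Commute v' (a * a0) := Subgroup.mem_center_iff.1 hz v'
    simpa using h1.mul_right hc0.inv_right
  · have h1 := core (a * a0) (mul_mem ha ha0) e hne
    simpa using h1.mul_right hc0.inv_right

/-- The centre of a core. -/
def ZCore (G : Type*) [Group G] (q : ℕ) : Subgroup G :=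
  Cfsg.pCore q G ⊓ Subgroup.centralizer (Cfsg.pCore q G : Set G)

instance (q : ℕ) : (ZCore G q).Normal := by
  haveI : (Subgroup.centralizer (Cfsg.pCore q G : Set G)).Normal := Subgroup.normal_centralizer
  unfold ZCore
  infer_instance

theorem zcore_commute {q : ℕ} : ∀ x ∈ ZCore G q, ∀ y ∈ ZCore G q, Commute x y :=
  fun _ hx _ hy => Subgroup.mem_centralizer_iff.1 hy.2 _ hx.1

theorem isPGroup_zcore {q : ℕ} : IsPGroup q (ZCore G q) :=
  (CfsgLib.Solvable.Cores.isPGroup_pCore q).to_le inf_le_left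

theorem commute_pCore_of_not_dvd {q : ℕ} (hq : q.Prime) {x : G} (hd : ¬ q ∣ cl x) :
    ∀ y ∈ Cfsg.pCore q G, Commute x y := by
  haveI := Fact.mk hq
  obtain ⟨Q, hQ⟩ := exists_sylow_le (p := q) (H := C x) hd
  exact fun y hy => (commute_iff.2 (hQ (CfsgLib.Solvable.Cores.pCore_le_sylow Q hy))).symm

theorem mem_zcore {q : ℕ} (hq : q.Prime) {x : G} (hx : x ∈ Cfsg.pCore q G) (hd : ¬ q ∣ cl x) :
    x ∈ ZCore G q :=
  ⟨hx, Subgroup.mem_centralizer_iff.2 fun y hy =>
    (commute_pCore_of_not_dvd hq hd y hy).eq.symm⟩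

theorem Bad.cl_one_or_m (B : Bad G n m p q u v) {z : G} (hz : ¬ q ∣ cl z) :
    cl z = 1 ∨ cl z = m := by
  rcases B.H.mem z with e | e | e | e
  · exact Or.inl e
  · exact absurd (e.symm ▸ B.hqn) hz
  · exact Or.inr e
  · exact absurd (e.symm ▸ dvd_mul_of_dvd_left B.hqn m) hz

theorem Bad.not_dvd_cl_m (B : Bad G n m p q u v) {z : G} (hz : cl z = m) : ¬ q ∣ cl z :=
  hz.symm ▸ B.H.not_dvd_m B.hq B.hqn

/-- The commutation argument in the centre of a core: an element of class size `m` there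
commutes with `u'` as soon as a conjugate of another one does. -/
theorem Bad.commute_zcore (B : Bad G n m p q u v) {u' x w : G} (hu' : QEl p u')
    (hcu' : cl u' = n) (hxV : x ∈ ZCore G q) (hcx : cl x = m) (hwV : w ∈ ZCore G q)
    (hcw : cl w = m) (huw : Commute u' w) : Commute u' x := by
  haveI := Fact.mk B.hp
  haveI := Fact.mk B.hq
  obtain ⟨P, hP⟩ := exists_sylow_le (p := p) (H := C u')
    (by rw [show (C u').index = n from hcu']; exact B.H.not_dvd_n B.hp B.hpm)
  obtain ⟨Q, hQ⟩ := exists_sylow_le (p := q) (H := C x) (B.not_dvd_cl_m hcx)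
  obtain ⟨k, hk⟩ := exists_conj_le B.hq Q.isPGroup' (H := C w) (B.not_dvd_cl_m hcw)
  set w' := k * w * k⁻¹
  have hQw : (Q : Subgroup G) ≤ C w' := fun y hy => mem_C_conj (hk y hy)
  have hw'V : w' ∈ ZCore G q := Subgroup.Normal.conj_mem inferInstance w hwV k
  have h1m : cl (x * w') = 1 ∨ cl (x * w') = m := B.cl_one_or_m fun hd =>
    Q.not_dvd_index (hd.trans (Subgroup.index_dvd_of_le
      ((le_inf hQ hQw).trans CfsgLib.ClassSizeMid.C_inf_le_mul)))
  exact B.symm.commute_of_abelian isPGroup_zcore zcore_commute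
    (fun y _ c hc => Subgroup.Normal.conj_mem inferInstance c hc y) (mem_sylow_of_le_C hu' hP) hP
    hxV hw'V hcx (B.H.not_central (Or.inr (Or.inl ((cl_conj w k).trans hcw)))) h1m
    (conj_commute (coprime_cl B.H hcu' hcw) huw k)

/-- An element of class size `n` lies in the `p`-core. -/
theorem Bad.exists_mem_pCore (B : Bad G n m p q u v) :
    ∃ z ∈ Cfsg.pCore p G, cl z = n := by
  haveI := Fact.mk B.hp
  haveI := Fact.mk B.hq
  haveI : Group.IsSolvable G := isSolvable_of_two_primes B.hp B.hq B.others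
  obtain ⟨z, hz, hzc⟩ : ∃ z ∈ Cfsg.pCore p G, z ∉ center G := by
    by_contra hne
    have hcen : ∀ y ∈ Cfsg.pCore p G, y ∈ center G := fun y hy =>
      by_contra fun h => hne ⟨y, hy, h⟩
    have hmem : ∀ w : G, QEl q w → cl w = m → w ∈ ZCore G q := fun w hw hcw =>
      mem_zcore B.hq (mem_pCore_of_centralizes (q := p) B.hq
        (fun s hs h1 h2 => B.others s hs h2 h1) hw
        (commute_pCore_of_not_dvd B.hq (B.not_dvd_cl_m hcw))
        (fun y hy => Subgroup.mem_center_iff.1 (hcen y hy) w)) (B.not_dvd_cl_m hcw)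
    obtain ⟨w, hw, hcw, huw⟩ := B.exists_w
    exact B.hnc (B.commute_zcore B.hu B.hcu (hmem v B.hv B.hcv) B.hcv (hmem w hw hcw) hcw huw)
  have hzp : QEl p z := qel_of_mem (CfsgLib.Solvable.Cores.isPGroup_pCore p) hz
  rcases B.H.cases hzc with e | e | e
  · exact ⟨z, hz, e⟩
  · exact absurd (B.allm p z B.hp hzp e) B.ne
  refine ⟨u, ?_, B.hcu⟩
  have hnil : Group.IsNilpotent (C z) := by
    refine isNilpotent_of_commute fun s t hs ht hst x y hx hy => ?_
    have lift : ∀ {s : ℕ} {a : C z}, QEl s a → QEl s (a : G) := fun ⟨k, hk⟩ =>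
      ⟨k, by rw [Subgroup.orderOf_coe, hk]⟩
    suffices Commute (x : G) (y : G) from Subtype.ext this.eq
    by_cases hsp : s = p
    · exact commute_iff.2 (B.H.le_C_of_nm e (commute_iff.2 y.2).symm
        (coprime_qel B.hp ht (fun h => hst (hsp.trans h)) hzp (lift hy)) x.2)
    · exact (commute_iff.2 (B.H.le_C_of_nm e (commute_iff.2 x.2).symm
        (coprime_qel B.hp hs (Ne.symm hsp) hzp (lift hx)) y.2)).symm
  obtain ⟨P⟩ : Nonempty (Sylow p (C z)) := inferInstance
  haveI : (P : Subgroup (C z)).Normal :=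
    (Group.isNilpotent_of_finite_tfae.out 0 3 rfl rfl).1 hnil p inferInstance P
  have hle : Subgroup.normalClosure ({u} : Set G) ≤ (P : Subgroup (C z)).map (C z).subtype := by
    refine (Subgroup.closure_le _).2 fun y hy => ?_
    rw [Group.mem_conjugatesOfSet_iff] at hy
    obtain ⟨w, hw, hy⟩ := hy
    rw [Set.mem_singleton_iff] at hw
    subst w
    obtain ⟨g, rfl⟩ := isConj_iff.1 hy
    have hcg : ¬ p ∣ cl (g * u * g⁻¹) := by
      rw [cl_conj, B.hcu]; exact B.H.not_dvd_n B.hp B.hpm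
    have hmemz : g * u * g⁻¹ ∈ C z :=
      commute_iff.1 (commute_pCore_of_not_dvd B.hp hcg z hz)
    obtain ⟨k, hk⟩ := B.hu.conj g
    exact ⟨⟨_, hmemz⟩, mem_sylow_of_normal ⟨k, by rw [Subgroup.orderOf_mk, hk]⟩, rfl⟩
  exact CfsgLib.Solvable.Cores.le_pCore ((P.isPGroup'.map _).to_le hle)
    (Subgroup.subset_normalClosure rfl)

/-- If an element of class size `n` does not commute with an element of class size `m` of the
`q`-core, then `m < n`. -/
theorem Bad.lt_of_not_commute (B : Bad G n m p q u v) {u' t : G} (hu' : QEl p u')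
    (hcu' : cl u' = n) (ht : t ∈ Cfsg.pCore q G) (hct : cl t = m) (hnc : ¬ Commute u' t) :
    m < n := by
  classical
  haveI := Fact.mk B.hp
  haveI := Fact.mk B.hq
  set V := ZCore G q with hV
  have htV : t ∈ V := mem_zcore B.hq ht (B.not_dvd_cl_m hct)
  obtain ⟨P, hP⟩ := exists_sylow_le (p := p) (H := C u')
    (by rw [show (C u').index = n from hcu']; exact B.H.not_dvd_n B.hp B.hpm)
  set e := t * u' * t⁻¹ with he
  set Hs := (P : Subgroup G) ⊓ C e with hHs
  haveI : Fintype Hs := Fintype.ofFinite _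
  letI : CommGroup V :=
    { (inferInstance : Group V) with
      mul_comm := fun a b => Subtype.ext (zcore_commute _ a.2 _ b.2).eq }
  set F : Hs → V := fun h => MulAut.conjNormal (h : G) ⟨t, htV⟩ with hF
  have hFc : ∀ h : Hs, ((F h : V) : G) = (h : G) * t * (h : G)⁻¹ := fun h => by
    simp [hF, MulAut.conjNormal_apply]
  set f := ∏ h : Hs, F h with hf
  have hfix : ∀ k : Hs, MulAut.conjNormal (k : G) f = f := by
    intro k
    rw [hf, map_prod]
    refine Fintype.prod_equiv (Equiv.mulLeft k) _ _ fun h => ?_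
    simp [hF, map_mul]
  have hdiv : ∀ h : Hs, (⟨t, htV⟩ : V)⁻¹ * F h ∈ (C u').subgroupOf V := by
    intro h
    rw [Subgroup.mem_subgroupOf, Subgroup.coe_mul, Subgroup.coe_inv, hFc]
    have h1 : (h : G) * u' * (h : G)⁻¹ = u' := by
      rw [mem_C.1 (hP h.2.1), mul_inv_cancel_right]
    have h2 : (h : G) * e * (h : G)⁻¹ = e := by
      rw [mem_C.1 h.2.2, mul_inv_cancel_right]
    refine mem_C.2 ?_
    set s := (h : G) * t * (h : G)⁻¹ with hs
    have h3 : s * u' * s⁻¹ = t * u' * t⁻¹ := by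
      calc s * u' * s⁻¹ = s * ((h : G) * u' * (h : G)⁻¹) * s⁻¹ := by rw [h1]
        _ = (h : G) * e * (h : G)⁻¹ := by rw [hs, he]; group
        _ = _ := h2
    calc t⁻¹ * s * u' = t⁻¹ * (s * u' * s⁻¹) * s := by group
      _ = t⁻¹ * (t * u' * t⁻¹) * s := by rw [h3]
      _ = u' * (t⁻¹ * s) := by group
  have hfq : QEl q (f : G) := qel_of_mem isPGroup_zcore f.2
  have hfc : (f : G) ∉ center G := by
    intro hfz
    have h1 : ∏ h : Hs, ((⟨t, htV⟩ : V)⁻¹ * F h) ∈ (C u').subgroupOf V :=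
      Subgroup.prod_mem _ fun h _ => hdiv h
    rw [Finset.prod_mul_distrib, Finset.prod_const, ← hf, Finset.card_univ,
      ← Nat.card_eq_fintype_card, Subgroup.mem_subgroupOf, Subgroup.coe_mul,
      SubgroupClass.coe_pow, Subgroup.coe_inv] at h1
    have h2 : (t⁻¹) ^ Nat.card Hs ∈ C u' :=
      (Subgroup.mul_mem_cancel_right _ (center_le_C u' hfz)).1 h1
    have hco : (Nat.card Hs).Coprime (orderOf t⁻¹) := by
      obtain ⟨i, hi⟩ := (P.isPGroup'.to_le (inf_le_left : Hs ≤ _)).exists_card_eq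
      obtain ⟨j, hj⟩ := qel_of_mem (isPGroup_zcore (G := G)) htV
      rw [orderOf_inv, hi, hj]
      exact ((Nat.coprime_primes B.hp B.hq).2 B.ne).pow i j
    obtain ⟨i, hi⟩ := exists_pow_eq_self_of_coprime hco
    exact hnc (commute_iff.2 (Subgroup.inv_mem_iff _ |>.1 (hi ▸ pow_mem h2 i))).symm
  have hmf : m ∣ cl (f : G) := B.symm.n_dvd hfq hfc
  have hHf : Hs ≤ C (f : G) := fun k hk => by
    refine mem_C.2 ?_
    have h1 := congrArg (fun x : V => (x : G)) (hfix ⟨k, hk⟩)
    simp only [MulAut.conjNormal_apply] at h1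
    exact mul_inv_eq_iff_eq_mul.1 h1
  have hle : m ≤ (C e).relIndex (P : Subgroup G) := by
    have h1 : (C (f : G)).relIndex (P : Subgroup G) ∣ Hs.relIndex (P : Subgroup G) :=
      Subgroup.relIndex_dvd_of_le_left _ hHf
    rw [hHs, Subgroup.inf_relIndex_left] at h1
    obtain ⟨b, hb⟩ := B.symm.pow_n
    have h2 : m ∣ (C (f : G)).relIndex (P : Subgroup G) * (P : Subgroup G).index := by
      rw [← relIndex_inf_index']
      exact hmf.trans (Subgroup.index_dvd_of_le inf_le_left)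
    have h3 : m.Coprime (P : Subgroup G).index :=
      hb ▸ (B.hp.coprime_iff_not_dvd.2 P.not_dvd_index).pow_left b
    refine Nat.le_of_dvd (Nat.pos_of_ne_zero ?_) ((h3.dvd_of_dvd_mul_right h2).trans h1)
    rw [← ncard_conj_range]
    exact ((Set.ncard_pos (Set.toFinite _)).2 (Set.range_nonempty _)).ne'
  have hne : e ≠ u' := fun h => hnc (mul_inv_eq_iff_eq_mul.1 h).symm
  rw [← ncard_conj_range] at hle
  refine lt_of_le_of_lt hle (lt_of_lt_of_le (Set.ncard_lt_ncard (t := Set.range fun x : V =>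
    (x : G) * u' * (x : G)⁻¹) ?_ (Set.toFinite _)) ?_)
  · rw [Set.ssubset_iff_of_subset]
    · refine ⟨u', ⟨1, by simp⟩, fun ⟨h, hh⟩ => hne ?_⟩
      have hh' : (h : G) * e * (h : G)⁻¹ = u' := hh
      have h1 : u' * (h : G) = (h : G) * u' := (mem_C.1 (hP h.2)).symm
      calc e = (h : G)⁻¹ * ((h : G) * e * (h : G)⁻¹) * (h : G) := by group
        _ = (h : G)⁻¹ * (u' * (h : G)) := by rw [hh', mul_assoc]
        _ = u' := by rw [h1, inv_mul_cancel_left]
    · rintro _ ⟨h, rfl⟩
      refine ⟨⟨(h : G) * t * (h : G)⁻¹, Subgroup.Normal.conj_mem inferInstance t htV _⟩, ?_⟩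
      have h1 : (h : G)⁻¹ * u' * (h : G) = u' := by
        rw [mul_assoc, ← mem_C.1 (hP h.2), inv_mul_cancel_left]
      show (h : G) * t * (h : G)⁻¹ * u' * ((h : G) * t * (h : G)⁻¹)⁻¹ = (h : G) * e * (h : G)⁻¹
      calc (h : G) * t * (h : G)⁻¹ * u' * ((h : G) * t * (h : G)⁻¹)⁻¹
          = (h : G) * t * ((h : G)⁻¹ * u' * (h : G)) * t⁻¹ * (h : G)⁻¹ := by group
        _ = (h : G) * e * (h : G)⁻¹ := by rw [h1, he]; group
  · rw [ncard_conj_range, ← hcu']
    have h1 := Subgroup.relIndex_le_of_le_right (H := C u') (le_top : V ≤ ⊤)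
      (by rw [Subgroup.relIndex_top_right]; exact Subgroup.index_ne_zero_of_finite)
    rwa [Subgroup.relIndex_top_right] at h1

/-- If all elements of class size `n` commute with `t`, they lie in the `p`-core. -/
theorem Bad.mem_pCore_of_all (B : Bad G n m p q u v) {t : G} (ht : t ∈ Cfsg.pCore q G)
    (hct : cl t = m) (hall : ∀ u' : G, QEl p u' → cl u' = n → Commute u' t) {u' : G}
    (hu' : QEl p u') (hcu' : cl u' = n) : u' ∈ Cfsg.pCore p G := by
  haveI := Fact.mk B.hp
  haveI := Fact.mk B.hq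
  haveI : Group.IsSolvable G := isSolvable_of_two_primes B.hp B.hq B.others
  have hpn := B.H.not_dvd_n B.hp B.hpm
  have hcp := commute_pCore_of_not_dvd B.hp (x := u') (by rw [hcu']; exact hpn)
  refine mem_pCore_of_centralizes (q := q) B.hp B.others hu' hcp ?_
  set O := Cfsg.pCore q G with hO
  have htV : t ∈ ZCore G q := mem_zcore B.hq ht (B.not_dvd_cl_m hct)
  set U := Subgroup.normalClosure ({u'} : Set G) with hU
  have hU' : ∀ K : Subgroup G, (∀ g, g * u' * g⁻¹ ∈ K) → U ≤ K := by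
    intro K hK
    refine (Subgroup.closure_le _).2 fun y hy => ?_
    rw [Group.mem_conjugatesOfSet_iff] at hy
    obtain ⟨w, hw, hy⟩ := hy
    rw [Set.mem_singleton_iff] at hw
    subst w
    obtain ⟨g, rfl⟩ := isConj_iff.1 hy
    exact hK g
  have hUt : U ≤ C t := hU' _ fun g =>
    commute_iff.1 (hall _ (hu'.conj g) ((cl_conj u' g).trans hcu'))
  -- a Sylow subgroup of `U` containing `u'`
  have huU : u' ∈ U := Subgroup.subset_normalClosure rfl
  obtain ⟨k, hk⟩ := hu'
  obtain ⟨W, hW⟩ := (IsPGroup.of_card (p := p) (n := k) (by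
    rw [Nat.card_zpowers, Subgroup.orderOf_mk, hk]) :
    IsPGroup p (zpowers (⟨u', huU⟩ : U))).exists_le_sylow
  set W0 := (W : Subgroup U).map U.subtype with hW0
  have hu' : QEl p u' := ⟨k, hk⟩
  have hW0p : IsPGroup p W0 := W.isPGroup'.map _
  have hW0U : W0 ≤ U := Subgroup.map_subtype_le _
  have huW0 : u' ∈ W0 := ⟨_, hW (mem_zpowers _), rfl⟩
  -- the image of `U` modulo the `q`-core
  set φ := QuotientGroup.mk' O with hφ
  have hbar : φ u' ∈ Cfsg.pCore p (G ⧸ O) := by
    have hoth : ∀ s : ℕ, s.Prime → s ≠ p → s ≠ q → ∀ y : G ⧸ O, QEl s y → y ∈ center (G ⧸ O) := by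
      intro s hs hsp hsq y hy
      haveI := Fact.mk hs
      obtain ⟨g, rfl⟩ := QuotientGroup.mk'_surjective O y
      obtain ⟨y₁, h1, y₂, h2, hg, hy1, hy2⟩ := exists_parts s g
      have h3 : φ y₂ = 1 := by
        refine CfsgLib.ClassSizeMid.el_eq_one (q := s) (hy.of_mem_zpowers ?_)
          (Nat.Coprime.of_dvd_left (orderOf_map_dvd φ y₂) hy2)
        obtain ⟨i, rfl⟩ := h2
        exact ⟨i, (map_zpow φ g i).symm⟩
      have h4 : y₁ ∈ center G := B.others s hs hsp hsq y₁ hy1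
      refine Subgroup.mem_center_iff.2 fun z => ?_
      obtain ⟨z, rfl⟩ := QuotientGroup.mk'_surjective O z
      rw [← hg, map_mul, ← hφ, h3, mul_one, ← map_mul, ← map_mul, Subgroup.mem_center_iff.1 h4 z]
    have hq1 : ∀ y ∈ Cfsg.pCore q (G ⧸ O), y = 1 := by
      intro y hy
      obtain ⟨g, rfl⟩ := QuotientGroup.mk'_surjective O y
      have hker : IsPGroup q φ.ker := by
        rw [hφ, QuotientGroup.ker_mk']; exact CfsgLib.Solvable.Cores.isPGroup_pCore q
      have h1 := CfsgLib.Solvable.Cores.le_pCore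
        ((CfsgLib.Solvable.Cores.isPGroup_pCore (G := G ⧸ O) q).comap_of_ker_isPGroup φ hker)
        (Subgroup.mem_comap.2 hy)
      exact (QuotientGroup.eq_one_iff g).2 h1
    have hφu : QEl p (φ u') := by
      obtain ⟨j, -, hj⟩ := (Nat.dvd_prime_pow B.hp).1 (hk ▸ orderOf_map_dvd φ u')
      exact ⟨j, hj⟩
    refine mem_pCore_of_centralizes (q := q) B.hp hoth hφu ?_
      (fun y hy => (hq1 y hy).symm ▸ Commute.one_right _)
    intro y hy
    obtain ⟨P, hP⟩ := exists_sylow_le (p := p) (H := C u')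
      (by rw [show (C u').index = n from hcu']; exact hpn)
    have h1 := CfsgLib.Solvable.Cores.pCore_le_sylow
      (P.mapSurjective (QuotientGroup.mk'_surjective O)) hy
    rw [Sylow.coe_mapSurjective] at h1
    obtain ⟨g, hg, rfl⟩ := h1
    exact ((commute_iff.2 (hP hg)).symm).map φ
  have hUq : U ≤ (Cfsg.pCore p (G ⧸ O)).comap φ := hU' _ fun g => by
    rw [Subgroup.mem_comap, map_mul, map_mul, map_inv]
    exact Subgroup.Normal.conj_mem inferInstance _ hbar _
  -- `U = O ⊔ W0` on `U`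
  have hdec : ∀ a ∈ U, ∃ w ∈ W0, a * w⁻¹ ∈ O := by
    intro a ha
    set ψ := φ.comp U.subtype with hψ
    have hrange : IsPGroup p ψ.range :=
      (CfsgLib.Solvable.Cores.isPGroup_pCore p).to_le (by rintro _ ⟨x, rfl⟩; exact hUq x.2)
    have h1 : ((W.mapSurjective ψ.rangeRestrict_surjective : Sylow p ψ.range) :
        Subgroup ψ.range) = ⊤ := by
      refine (Sylow.is_maximal' _ (hrange.of_equiv Subgroup.topEquiv.symm) le_top).symm
    rw [Sylow.coe_mapSurjective] at h1
    obtain ⟨w, hw, hwe⟩ := h1.ge (Subgroup.mem_top ⟨ψ ⟨a, ha⟩, ⟨a, ha⟩, rfl⟩)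
    refine ⟨w, ⟨w, hw, rfl⟩, ?_⟩
    have h2 : φ (w : G) = φ a := congrArg Subtype.val hwe
    rw [← QuotientGroup.eq_one_iff, ← QuotientGroup.mk'_apply, ← hφ, map_mul, map_inv, h2,
      mul_inv_cancel]
  -- every element of `O` centralises a conjugate of `W0`
  have hcov : ∀ x ∈ O, ∃ y ∈ O, ∀ w ∈ W0, Commute w (y⁻¹ * x * y) := by
    intro x hx
    by_cases hxc : x ∈ center G
    · exact ⟨1, one_mem O, fun w _ => by
        simp only [inv_one, one_mul, mul_one]
        exact Subgroup.mem_center_iff.1 hxc w⟩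
    have hxq : QEl q x := qel_of_mem (CfsgLib.Solvable.Cores.isPGroup_pCore q) hx
    rcases B.H.cases hxc with e | e | e
    · exact absurd (B.alln q x B.hq hxq e) (Ne.symm B.ne)
    · have hxV : x ∈ ZCore G q := mem_zcore B.hq hx (B.not_dvd_cl_m e)
      have hUx : U ≤ C x := hU' _ fun g => commute_iff.1
        (B.commute_zcore (hu'.conj g) ((cl_conj u' g).trans hcu') hxV e htV hct
          (hall _ (hu'.conj g) ((cl_conj u' g).trans hcu')))
      exact ⟨1, one_mem O, fun w hw => by simpa using commute_iff.2 (hUx (hW0U hw))⟩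
    have hs : ∀ s ∈ C x, QEl p s → s ∈ C t := fun s hs hps =>
      mem_C_symm (B.H.le_C_of_nm e (commute_iff.2 hs).symm (coprime_qel B.hq B.hp (Ne.symm B.ne)
        hxq hps) (commute_iff.1 ((Subgroup.mem_centralizer_iff.1 htV.2 x hx) : Commute x t).symm))
    obtain ⟨c, -, hc⟩ := exists_conj_le_rel B.hp hW0p (hW0U.trans hUt)
      (B.H.not_dvd_relIndex_of_nm e hct B.hp hpn hs)
    -- conjugate back into `W0` inside `U`
    set W1 := W0.map (MulAut.conj c⁻¹).toMonoidHom with hW1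
    have hW1U : W1 ≤ U := by
      rintro _ ⟨w, hw, rfl⟩
      exact Subgroup.Normal.conj_mem inferInstance w (hW0U hw) c⁻¹
    obtain ⟨a, ha, hA⟩ := exists_conj_le_rel B.hp (hW0p.map _ : IsPGroup p W1) hW1U
      (D := W0) (by
        rw [Subgroup.relIndex, Subgroup.subgroupOf, hW0,
          Subgroup.comap_map_eq_self_of_injective (Subgroup.subtype_injective _)]
        exact W.not_dvd_index)
    let f : W0 → W0 := fun w =>
      ⟨a⁻¹ * (c⁻¹ * (w : G) * c) * a, hA _ ⟨w, w.2, by simp⟩⟩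
    have hf : Function.Injective f := fun w w' h => by
      simpa [f] using congrArg Subtype.val h
    obtain ⟨w₀, hw₀, hy⟩ := hdec a ha
    refine ⟨a * w₀⁻¹, hy, fun w hw => ?_⟩
    obtain ⟨w', hw'⟩ := (Finite.injective_iff_surjective.1 hf)
      ⟨w₀⁻¹ * w * w₀, mul_mem (mul_mem (inv_mem hw₀) hw) hw₀⟩
    have h1 : a⁻¹ * (c⁻¹ * (w' : G) * c) * a = w₀⁻¹ * w * w₀ := congrArg Subtype.val hw'
    have h2 : Commute (c⁻¹ * (w' : G) * c) x := commute_iff.2 (hc w' w'.2).1
    have h3 := C_conj_commute (g := w₀ * a⁻¹) h2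
    have h4 : w₀ * a⁻¹ * (c⁻¹ * (w' : G) * c) * (w₀ * a⁻¹)⁻¹ =
        w₀ * (a⁻¹ * (c⁻¹ * (w' : G) * c) * a) * w₀⁻¹ := by group
    rw [h4, h1, show w₀ * (w₀⁻¹ * w * w₀) * w₀⁻¹ = w by group] at h3
    rwa [show (a * w₀⁻¹)⁻¹ * x * (a * w₀⁻¹) = w₀ * a⁻¹ * x * (w₀ * a⁻¹)⁻¹ by group]
  have htop : (Subgroup.centralizer (W0 : Set G)).subgroupOf O = ⊤ := by
    by_contra hne
    obtain ⟨⟨x, hx⟩, hxn⟩ := CfsgLib.Derangements.Basic.exists_notMem_conj hne
    obtain ⟨y, hy, hcy⟩ := hcov x hx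
    refine hxn ⟨y⁻¹, inv_mem hy⟩ (Subgroup.mem_centralizer_iff.2 fun w hw => ?_)
    simpa using (hcy w hw).eq
  intro y hy
  have h1 : (⟨y, hy⟩ : O) ∈ (Subgroup.centralizer (W0 : Set G)).subgroupOf O :=
    htop ▸ Subgroup.mem_top _
  exact Subgroup.mem_centralizer_iff.1 h1 u' huW0

theorem Bad.false_of_all (B : Bad G n m p q u v) {t : G} (ht : t ∈ Cfsg.pCore q G)
    (hct : cl t = m) (hall : ∀ u' : G, QEl p u' → cl u' = n → Commute u' t) : False := by
  obtain ⟨z, hz, hcz, hvz⟩ := B.symm.exists_w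
  have hmem : ∀ u' : G, QEl p u' → cl u' = n → u' ∈ ZCore G p := fun u' h1 h2 =>
    mem_zcore B.hp (B.mem_pCore_of_all ht hct hall h1 h2) (B.symm.not_dvd_cl_m h2)
  exact B.symm.hnc (B.symm.commute_zcore B.hv B.hcv (hmem u B.hu B.hcu) B.hcu (hmem z hz hcz)
    hcz hvz)

theorem Hyp.false_of_noGood (H : Hyp G n m) (hng : NoGoodElement G n m) : False := by
  obtain ⟨p, q, u, v, B⟩ := H.exists_bad hng
  obtain ⟨z, hz, hcz⟩ := B.exists_mem_pCore
  obtain ⟨t, ht, hct⟩ := B.symm.exists_mem_pCore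
  by_cases h1 : ∀ u' : G, QEl p u' → cl u' = n → Commute u' t
  · exact B.false_of_all ht hct h1
  by_cases h2 : ∀ v' : G, QEl q v' → cl v' = m → Commute v' z
  · exact B.symm.false_of_all hz hcz h2
  push Not at h1 h2
  obtain ⟨u', hu', hcu', hn1⟩ := h1
  obtain ⟨v', hv', hcv', hn2⟩ := h2
  exact lt_asymm (B.lt_of_not_commute hu' hcu' ht hct hn1)
    (B.symm.lt_of_not_commute hv' hcv' hz hcz hn2)

end CfsgLib.ClassSizeNM
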